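import Mathlib

/-!
Polynomials coprime to their reversal and matrices preserving no bilinear form.
-/

set_option autoImplicit false

namespace CfsgLib.KnownB.OreSp

open Polynomial

variable {F : Type*} [Field F]

/-- `Q` is a reversal of `P`. -/
def Rev (P Q : F[X]) : Prop := ∃ N, P.natDegree ≤ N ∧ P.reflect N = Q

theorem Rev.mul {P Q P' Q' : F[X]} (h : Rev P Q) (h' : Rev P' Q') : Rev (P * P') (Q * Q') := by
  obtain ⟨N, hN, rfl⟩ := h
  obtain ⟨N', hN', rfl⟩ := h'
  exact ⟨N + N', natDegree_mul_le.trans (by omega), reflect_mul _ _ hN hN'⟩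

/-- A polynomial coprime to its reversal. -/
def Apart (P : F[X]) : Prop := ∃ Q, Rev P Q ∧ IsCoprime P Q

theorem aeval_reflect {A : Type*} [Ring A] [Algebra F A] (x y : A) (h : y * x = 1) (N : ℕ)
    (P : F[X]) (hP : P.natDegree ≤ N) : aeval y (P.reflect N) * x ^ N = aeval x P := by
  have hc : ∀ k, y ^ k * x ^ k = 1 := by
    intro k
    induction k with
    | zero => simp
    | succ k ih =>
      rw [pow_succ y, pow_succ' x, mul_assoc, ← mul_assoc y x, h, one_mul, ih]
  refine induction_with_natDegree_le (fun P => aeval y (P.reflect N) * x ^ N = aeval x P) N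
    (by simp) (fun n r _ hn => ?_) (fun f g _ _ hf hg => ?_) P hP
  · obtain ⟨k, rfl⟩ := Nat.exists_eq_add_of_le hn
    simp only [reflect_C_mul_X_pow, revAt_le (Nat.le_add_right n k), Nat.add_sub_cancel_left,
      map_mul, aeval_C, aeval_X_pow, mul_assoc]
    rw [Nat.add_comm n k, pow_add, ← mul_assoc (y ^ k), hc, one_mul]
  · simp only [reflect_add, map_add, add_mul, hf, hg]

variable {l : Type*} [Fintype l] [DecidableEq l]

open Matrix

theorem aeval_transpose (A : Matrix l l F) (P : F[X]) : aeval Aᵀ P = (aeval A P)ᵀ := by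
  induction P using Polynomial.induction_on' with
  | add p q hp hq => simp [hp, hq]
  | monomial n r => simp [Algebra.algebraMap_eq_smul_one, Matrix.transpose_pow]

theorem aeval_semiconj {A Y T : Matrix l l F} (h : T * A = Y * T) (P : F[X]) :
    T * aeval A P = aeval Y P * T := by
  induction P using Polynomial.induction_on' with
  | add p q hp hq => simp [mul_add, add_mul, hp, hq]
  | monomial n r =>
    have : T * A ^ n = Y ^ n * T := (SemiconjBy.pow_right h n)
    simp [Algebra.algebraMap_eq_smul_one, this]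

/-- A matrix annihilated by a polynomial coprime to its reversal preserves no form. -/
theorem eq_zero_of_form {P : F[X]} (hP : Apart P) {A T : Matrix l l F} (hA : IsUnit A.det)
    (hz : aeval A P = 0) (hT : Aᵀ * T * A = T) : T = 0 := by
  obtain ⟨Q, ⟨N, hN, rfl⟩, a, b, hab⟩ := hP
  have hA' : IsUnit (Aᵀ).det := isUnit_det_transpose _ hA
  have hs : T * A = (Aᵀ)⁻¹ * T := by
    conv_rhs => rw [← hT, Matrix.mul_assoc Aᵀ, Matrix.nonsing_inv_mul_cancel_left _ _ hA']
  have hQ : aeval (Aᵀ)⁻¹ (P.reflect N) = 0 := by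
    have h0 := aeval_reflect Aᵀ (Aᵀ)⁻¹ (Matrix.nonsing_inv_mul _ hA') N P hN
    rw [aeval_transpose, hz, Matrix.transpose_zero] at h0
    have hu : IsUnit (Aᵀ ^ N) := ((Matrix.isUnit_iff_isUnit_det _).2 hA').pow N
    exact hu.mul_left_eq_zero.1 h0
  have h1 : aeval (Aᵀ)⁻¹ P * T = 0 := by rw [← aeval_semiconj hs, hz, mul_zero]
  calc T = aeval (Aᵀ)⁻¹ (a * P + b * P.reflect N) * T := by rw [hab, map_one, one_mul]
    _ = 0 := by rw [map_add, map_mul, map_mul, add_mul, mul_assoc, h1, hQ]; simp

theorem aeval_fromBlocks {m : Type*} [Fintype m] [DecidableEq m] (A : Matrix l l F)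
    (B : Matrix m m F) (P : F[X]) :
    aeval (fromBlocks A 0 0 B) P = fromBlocks (aeval A P) 0 0 (aeval B P) := by
  induction P using Polynomial.induction_on' with
  | add p q hp hq => simp [hp, hq, fromBlocks_add]
  | monomial n r =>
    simp only [aeval_monomial, Algebra.algebraMap_eq_smul_one, smul_mul_assoc, one_mul,
      fromBlocks_diagonal_pow, fromBlocks_smul, smul_zero]

end CfsgLib.KnownB.OreSp
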