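import Cfsg.Agent.Lib.KnownB.OreSp.Units

/-!
Good diagonal matrices over the field with three elements.
-/

set_option autoImplicit false

namespace CfsgLib.KnownB.OreSp

open Matrix Polynomial

section polys

variable {R : Type*} [CommRing R]

/-- `X² - X - 1`. -/
noncomputable def t2 : R[X] := X ^ 2 - X - 1
/-- `X³ - X - 1`. -/
noncomputable def t3 : R[X] := X ^ 3 - X - 1
/-- `X³ - X + 1`. -/
noncomputable def t3n : R[X] := X ^ 3 - X + 1
/-- `X⁴ + X² + 2`. -/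
noncomputable def t4 : R[X] := X ^ 4 + X ^ 2 + 2
/-- Reversal of `t2`. -/
noncomputable def t2r : R[X] := -X ^ 2 - X + 1
/-- Reversal of `t3`. -/
noncomputable def t3r : R[X] := -X ^ 3 - X ^ 2 + 1
/-- Reversal of `t3n`. -/
noncomputable def t3nr : R[X] := X ^ 3 - X ^ 2 + 1
/-- Reversal of `t4`. -/
noncomputable def t4r : R[X] := 2 * X ^ 4 + X ^ 2 + 1

/-- The product used over three elements. -/
noncomputable def polyThree : R[X] := t2 * t3 * t3n * t4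

end polys

variable {F : Type*} [Field F]

theorem reflect_one_eq (N : ℕ) : reflect N (1 : F[X]) = X ^ N := by
  rw [← C_1, reflect_C, C_1, one_mul]

theorem reflect_X_eq (N : ℕ) : reflect N (X : F[X]) = X ^ revAt N 1 := by
  conv_lhs => rw [← pow_one (X : F[X]), reflect_monomial]

theorem rev_t2 : Rev (t2 : F[X]) t2r := by
  refine ⟨2, by rw [t2]; compute_degree, ?_⟩
  simp only [t2, t2r, reflect_sub, reflect_monomial, reflect_one_eq, reflect_X_eq,
    revAt_le (show 1 ≤ 2 by omega), revAt_le (show 2 ≤ 2 by omega)]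
  ring

theorem rev_t3 : Rev (t3 : F[X]) t3r := by
  refine ⟨3, by rw [t3]; compute_degree, ?_⟩
  simp only [t3, t3r, reflect_sub, reflect_monomial, reflect_one_eq, reflect_X_eq,
    revAt_le (show 1 ≤ 3 by omega), revAt_le (show 3 ≤ 3 by omega)]
  ring

theorem rev_t3n : Rev (t3n : F[X]) t3nr := by
  refine ⟨3, by rw [t3n]; compute_degree, ?_⟩
  simp only [t3n, t3nr, reflect_sub, reflect_add, reflect_monomial, reflect_one_eq, reflect_X_eq,
    revAt_le (show 1 ≤ 3 by omega), revAt_le (show 3 ≤ 3 by omega)]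
  ring

theorem rev_t4 : Rev (t4 : F[X]) t4r := by
  refine ⟨4, by rw [t4]; compute_degree, ?_⟩
  simp only [t4, t4r, reflect_add, reflect_monomial, show (2 : F[X]) = C 2 from (map_ofNat C 2).symm,
    reflect_C, revAt_le (show 2 ≤ 4 by omega), revAt_le (show 4 ≤ 4 by omega)]
  ring

theorem bez_t2_t2 (hq : (3 : F[X]) = 0) : IsCoprime (t2 : F[X]) t2r :=
  ⟨(1 + 1 * X), ((-1) + 1 * X), by
    simp only [t2, t2r]; linear_combination ((-1)) * hq⟩
theorem bez_t2_t3 (hq : (3 : F[X]) = 0) : IsCoprime (t2 : F[X]) t3r :=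
  ⟨(1 + (-1) * X), ((-1)), by
    simp only [t2, t3r]; linear_combination ((-1) + 1 * X ^ 2) * hq⟩
theorem bez_t2_t3n (hq : (3 : F[X]) = 0) : IsCoprime (t2 : F[X]) t3nr :=
  ⟨(1 + 1 * X + 1 * X ^ 2), ((-1) + (-1) * X), by
    simp only [t2, t3nr]; linear_combination ((-1) + (-1) * X) * hq⟩
theorem bez_t2_t4 (hq : (3 : F[X]) = 0) : IsCoprime (t2 : F[X]) t4r :=
  ⟨(1 + 1 * X ^ 3), ((-1) + 1 * X), by
    simp only [t2, t4r]; linear_combination ((-1) + (-1) * X ^ 4 + 1 * X ^ 5) * hq⟩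
theorem bez_t3_t2 (hq : (3 : F[X]) = 0) : IsCoprime (t3 : F[X]) t2r :=
  ⟨(1 * X), (1 + (-1) * X + 1 * X ^ 2), by
    simp only [t3, t2r]; linear_combination ((-1) * X) * hq⟩
theorem bez_t3_t3 (hq : (3 : F[X]) = 0) : IsCoprime (t3 : F[X]) t3r :=
  ⟨((-1) * X), (1 + (-1) * X), by
    simp only [t3, t3r]; linear_combination (0) * hq⟩
theorem bez_t3_t3n (hq : (3 : F[X]) = 0) : IsCoprime (t3 : F[X]) t3nr :=
  ⟨(1 + (-1) * X ^ 2), ((-1) + 1 * X + 1 * X ^ 2), by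
    simp only [t3, t3nr]; linear_combination ((-1) + 1 * X ^ 2) * hq⟩
theorem bez_t3_t4 (hq : (3 : F[X]) = 0) : IsCoprime (t3 : F[X]) t4r :=
  ⟨((-1) + (-1) * X ^ 2 + (-1) * X ^ 3), ((-1) * X + (-1) * X ^ 2), by
    simp only [t3, t4r]; linear_combination ((-1) * X ^ 5 + (-1) * X ^ 6) * hq⟩
theorem bez_t3n_t2 (hq : (3 : F[X]) = 0) : IsCoprime (t3n : F[X]) t2r :=
  ⟨(1 + 1 * X), (1 * X ^ 2), by
    simp only [t3n, t2r]; linear_combination (0) * hq⟩
theorem bez_t3n_t3 (hq : (3 : F[X]) = 0) : IsCoprime (t3n : F[X]) t3r :=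
  ⟨((-1) + 1 * X ^ 2), ((-1) + (-1) * X + 1 * X ^ 2), by
    simp only [t3n, t3r]; linear_combination ((-1) + 1 * X ^ 2) * hq⟩
theorem bez_t3n_t3n (hq : (3 : F[X]) = 0) : IsCoprime (t3n : F[X]) t3nr :=
  ⟨((-1) * X), (1 + 1 * X), by
    simp only [t3n, t3nr]; linear_combination (0) * hq⟩
theorem bez_t3n_t4 (hq : (3 : F[X]) = 0) : IsCoprime (t3n : F[X]) t4r :=
  ⟨(1 + 1 * X ^ 2 + (-1) * X ^ 3), (1 * X + (-1) * X ^ 2), by
    simp only [t3n, t4r]; linear_combination (1 * X ^ 5 + (-1) * X ^ 6) * hq⟩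
theorem bez_t4_t2 (hq : (3 : F[X]) = 0) : IsCoprime (t4 : F[X]) t2r :=
  ⟨((-1) * X), (1 + 1 * X ^ 2 + (-1) * X ^ 3), by
    simp only [t4, t2r]; linear_combination ((-1) * X + (-1) * X ^ 3) * hq⟩
theorem bez_t4_t3 (hq : (3 : F[X]) = 0) : IsCoprime (t4 : F[X]) t3r :=
  ⟨((-1) + 1 * X), (1 * X + 1 * X ^ 2), by
    simp only [t4, t3r]; linear_combination ((-1) + 1 * X + (-1) * X ^ 4) * hq⟩
theorem bez_t4_t3n (hq : (3 : F[X]) = 0) : IsCoprime (t4 : F[X]) t3nr :=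
  ⟨((-1) + (-1) * X), ((-1) * X + 1 * X ^ 2), by
    simp only [t4, t3nr]; linear_combination ((-1) + (-1) * X + (-1) * X ^ 4) * hq⟩
theorem bez_t4_t4 (hq : (3 : F[X]) = 0) : IsCoprime (t4 : F[X]) t4r :=
  ⟨(1 + (-1) * X ^ 2), ((-1) + (-1) * X ^ 2), by
    simp only [t4, t4r]; linear_combination ((-1) * X ^ 2 + (-1) * X ^ 4 + (-1) * X ^ 6) * hq⟩

theorem apart_polyThree [CharP F 3] : Apart (polyThree : F[X]) := by
  have hq : (3 : F[X]) = 0 := by
    rw [← map_ofNat C 3, show (3 : F) = ((3 : ℕ) : F) by norm_num, CharP.cast_eq_zero, map_zero]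
  refine ⟨_, (((rev_t2.mul rev_t3).mul rev_t3n).mul rev_t4), ?_⟩
  exact ((((((bez_t2_t2 hq).mul_right (bez_t2_t3 hq)).mul_right (bez_t2_t3n hq)).mul_right (bez_t2_t4 hq)).mul_left
    ((((bez_t3_t2 hq).mul_right (bez_t3_t3 hq)).mul_right (bez_t3_t3n hq)).mul_right (bez_t3_t4 hq))).mul_left
    ((((bez_t3n_t2 hq).mul_right (bez_t3n_t3 hq)).mul_right (bez_t3n_t3n hq)).mul_right (bez_t3n_t4 hq))).mul_left
    ((((bez_t4_t2 hq).mul_right (bez_t4_t3 hq)).mul_right (bez_t4_t3n hq)).mul_right (bez_t4_t4 hq))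

theorem dvd_t2 : (t2 : F[X]) ∣ polyThree := ⟨t3 * t3n * t4, by rw [polyThree]; ring⟩

theorem dvd_t3 : (t3 : F[X]) ∣ polyThree := ⟨t2 * t3n * t4, by rw [polyThree]; ring⟩

theorem dvd_t4 : (t4 : F[X]) ∣ polyThree := ⟨t2 * t3 * t3n, by rw [polyThree]; ring⟩

theorem dvd_t3t3n : (t3 * t3n : F[X]) ∣ polyThree := ⟨t2 * t4, by rw [polyThree]; ring⟩

theorem dvd_t2t3n : (t2 * t3n : F[X]) ∣ polyThree := ⟨t3 * t4, by rw [polyThree]; ring⟩

/-- Certificates over `ZMod 3`. -/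
theorem goodD_of_cert [CharP F 3] {Φ : F[X]} (a b : ℕ) (q : F[X]) (q₀ : (ZMod 3)[X])
    (L Li P Pi : Matrix (Fin (a + b)) (Fin (a + b)) (ZMod 3)) (hL : L * Li = 1) (hP : P * Pi = 1)
    (e : diagonal (Fin.addCases (fun _ => (1 : ZMod 3)) fun _ => -1) * L * P = P * L)
    (hz : aeval L q₀ = 0) (hq0 : q₀.map (ZMod.castHom (dvd_refl 3) F) = q) (hq : q ∣ Φ) :
    GoodD Φ a b := by
  let f : ZMod 3 →+* F := ZMod.castHom (dvd_refl 3) F
  let σ : Fin a ⊕ Fin b ≃ Fin (a + b) := finSumFinEquiv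
  have hu : ∀ X Y : Matrix (Fin (a + b)) (Fin (a + b)) (ZMod 3), X * Y = 1 →
      IsUnit ((X.map f).submatrix σ σ).det := by
    intro X Y h
    rw [det_submatrix_equiv_self, ← RingHom.mapMatrix_apply, ← RingHom.map_det]
    exact ((Matrix.isUnit_iff_isUnit_det X).1 (IsUnit.of_mul_eq_one Y h)).map f
  refine goodD_of_dvd ((L.map f).submatrix σ σ) ((P.map f).submatrix σ σ) q hq (hu L Li hL)
    (hu P Pi hP) ?_ ?_
  · have h := congrArg (fun X => (Matrix.map X f).submatrix σ σ) e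
    simp only [Matrix.map_mul, ← submatrix_mul_equiv _ _ σ σ σ] at h
    rw [← h]
    congr 2
    rw [signMat, diagonal_map (map_zero f), submatrix_diagonal_equiv]
    congr 1
    funext i
    rcases i with i | i <;> simp [σ]
  · change aeval (Matrix.reindexAlgEquiv F F σ.symm (L.map f)) q = 0
    rw [aeval_algHom_apply]
    suffices aeval (L.map f) q = 0 by rw [this, map_zero]
    rw [← hq0]
    have key : ∀ p : (ZMod 3)[X], aeval (L.map f) (p.map f) = (aeval L p).map f := by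
      intro p
      rw [aeval_def, eval₂_map, aeval_def, ← RingHom.mapMatrix_apply, ← RingHom.mapMatrix_apply,
        hom_eval₂]
      congr 1
      ext r i j
      by_cases hij : i = j
      · simp [hij, Matrix.algebraMap_matrix_apply]
      · simp [hij, Matrix.algebraMap_matrix_apply]
    rw [key, hz, Matrix.map_zero _ (map_zero f)]

set_option linter.unusedSimpArgs false

theorem goodD_20 [CharP F 3] : GoodD (polyThree (R := F)) 2 0 := by
  refine goodD_of_cert 2 0 (t2) (t2)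
    !![0, 1; 1, 1]
    !![2, 1; 1, 0]
    !![1, 0; 0, 1]
    !![1, 0; 0, 1]
    (by decide +kernel) (by decide +kernel) (by decide +kernel) ?_ (by simp [t2, t3, t3n, t4]) ?_
  · simp only [t2, t3, t3n, t4, map_add, map_sub, map_mul, map_pow, map_one, map_ofNat, aeval_X,
      pow_succ, pow_zero, one_mul]
    decide +kernel
  · exact dvd_t2

theorem goodD_30 [CharP F 3] : GoodD (polyThree (R := F)) 3 0 := by
  refine goodD_of_cert 3 0 (t3) (t3)
    !![0, 0, 1; 1, 0, 1; 0, 1, 0]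
    !![2, 1, 0; 0, 0, 1; 1, 0, 0]
    !![1, 0, 0; 0, 1, 0; 0, 0, 1]
    !![1, 0, 0; 0, 1, 0; 0, 0, 1]
    (by decide +kernel) (by decide +kernel) (by decide +kernel) ?_ (by simp [t2, t3, t3n, t4]) ?_
  · simp only [t2, t3, t3n, t4, map_add, map_sub, map_mul, map_pow, map_one, map_ofNat, aeval_X,
      pow_succ, pow_zero, one_mul]
    decide +kernel
  · exact dvd_t3

theorem goodD_04 [CharP F 3] : GoodD (polyThree (R := F)) 0 4 := by
  refine goodD_of_cert 0 4 (t4) (t4)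
    !![0, 0, 0, 1; 1, 0, 0, 0; 0, 1, 0, 2; 0, 0, 1, 0]
    !![0, 1, 0, 0; 1, 0, 1, 0; 0, 0, 0, 1; 1, 0, 0, 0]
    !![1, 0, 0, 0; 0, 2, 0, 0; 0, 0, 1, 0; 0, 0, 0, 2]
    !![1, 0, 0, 0; 0, 2, 0, 0; 0, 0, 1, 0; 0, 0, 0, 2]
    (by decide +kernel) (by decide +kernel) (by decide +kernel) ?_ (by simp [t2, t3, t3n, t4]) ?_
  · simp only [t2, t3, t3n, t4, map_add, map_sub, map_mul, map_pow, map_one, map_ofNat, aeval_X,
      pow_succ, pow_zero, one_mul]
    decide +kernel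
  · exact dvd_t4

theorem goodD_06 [CharP F 3] : GoodD (polyThree (R := F)) 0 6 := by
  refine goodD_of_cert 0 6 (t3 * t3n) (t3 * t3n)
    !![0, 0, 1, 0, 0, 0; 1, 0, 1, 0, 0, 0; 0, 1, 0, 0, 0, 0; 0, 0, 0, 0, 0, 2; 0, 0, 0, 2, 0, 2; 0, 0, 0, 0, 2, 0]
    !![2, 1, 0, 0, 0, 0; 0, 0, 1, 0, 0, 0; 1, 0, 0, 0, 0, 0; 0, 0, 0, 1, 2, 0; 0, 0, 0, 0, 0, 2; 0, 0, 0, 2, 0, 0]
    !![0, 0, 0, 1, 0, 0; 0, 0, 0, 0, 1, 0; 0, 0, 0, 0, 0, 1; 1, 0, 0, 0, 0, 0; 0, 1, 0, 0, 0, 0; 0, 0, 1, 0, 0, 0]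
    !![0, 0, 0, 1, 0, 0; 0, 0, 0, 0, 1, 0; 0, 0, 0, 0, 0, 1; 1, 0, 0, 0, 0, 0; 0, 1, 0, 0, 0, 0; 0, 0, 1, 0, 0, 0]
    (by decide +kernel) (by decide +kernel) (by decide +kernel) ?_ (by simp [t2, t3, t3n, t4]) ?_
  · simp only [t2, t3, t3n, t4, map_add, map_sub, map_mul, map_pow, map_one, map_ofNat, aeval_X,
      pow_succ, pow_zero, one_mul]
    decide +kernel
  · exact dvd_t3t3n

theorem goodD_12 [CharP F 3] : GoodD (polyThree (R := F)) 1 2 := by
  refine goodD_of_cert 1 2 (t3) (t3)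
    !![0, 0, 1; 1, 0, 1; 0, 1, 0]
    !![2, 1, 0; 0, 0, 1; 1, 0, 0]
    !![1, 0, 0; 0, 2, 0; 0, 0, 1]
    !![1, 0, 0; 0, 2, 0; 0, 0, 1]
    (by decide +kernel) (by decide +kernel) (by decide +kernel) ?_ (by simp [t2, t3, t3n, t4]) ?_
  · simp only [t2, t3, t3n, t4, map_add, map_sub, map_mul, map_pow, map_one, map_ofNat, aeval_X,
      pow_succ, pow_zero, one_mul]
    decide +kernel
  · exact dvd_t3

theorem goodD_22 [CharP F 3] : GoodD (polyThree (R := F)) 2 2 := by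
  refine goodD_of_cert 2 2 (t4) (t4)
    !![0, 2, 2, 0; 1, 0, 0, 0; 0, 0, 0, 1; 0, 2, 0, 0]
    !![0, 1, 0, 0; 0, 0, 0, 2; 2, 0, 0, 1; 0, 0, 1, 0]
    !![2, 0, 0, 0; 0, 2, 0, 0; 0, 0, 2, 0; 0, 0, 0, 1]
    !![2, 0, 0, 0; 0, 2, 0, 0; 0, 0, 2, 0; 0, 0, 0, 1]
    (by decide +kernel) (by decide +kernel) (by decide +kernel) ?_ (by simp [t2, t3, t3n, t4]) ?_
  · simp only [t2, t3, t3n, t4, map_add, map_sub, map_mul, map_pow, map_one, map_ofNat, aeval_X,
      pow_succ, pow_zero, one_mul]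
    decide +kernel
  · exact dvd_t4

theorem goodD_14 [CharP F 3] : GoodD (polyThree (R := F)) 1 4 := by
  refine goodD_of_cert 1 4 (t2 * t3n) (t2 * t3n)
    !![1, 1, 0, 0, 0; 0, 0, 2, 0, 0; 0, 0, 0, 0, 1; 1, 0, 1, 0, 2; 0, 2, 1, 2, 0]
    !![0, 1, 1, 1, 0; 1, 2, 2, 2, 0; 0, 2, 0, 0, 0; 2, 0, 1, 1, 2; 0, 0, 1, 0, 0]
    !![1, 0, 0, 0, 0; 0, 1, 0, 0, 0; 0, 0, 2, 0, 0; 0, 1, 0, 2, 0; 0, 0, 0, 0, 1]
    !![1, 0, 0, 0, 0; 0, 1, 0, 0, 0; 0, 0, 2, 0, 0; 0, 1, 0, 2, 0; 0, 0, 0, 0, 1]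
    (by decide +kernel) (by decide +kernel) (by decide +kernel) ?_ (by simp [t2, t3, t3n, t4]) ?_
  · simp only [t2, t3, t3n, t4, map_add, map_sub, map_mul, map_pow, map_one, map_ofNat, aeval_X,
      pow_succ, pow_zero, one_mul]
    decide +kernel
  · exact dvd_t2t3n

/-- The counts that occur. -/
theorem goodD_three [CharP F 3] (a b : ℕ) (hb : Even b) (h1 : ¬ (a = 1 ∧ b = 0))
    (h2 : ¬ (a = 0 ∧ b = 2)) : GoodD (polyThree (R := F)) a b := by
  have hp : ∀ a, a ≠ 1 → GoodD (polyThree (R := F)) a 0 := by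
    intro a
    induction a using Nat.strong_induction_on with
    | _ a ih =>
      intro ha
      match a, ha with
      | 0, _ => exact goodD_zero
      | 2, _ => exact goodD_20
      | 3, _ => exact goodD_30
      | a + 4, _ => exact (ih (a + 2) (by omega) (by omega)).add goodD_20
  obtain ⟨e, rfl⟩ := hb
  induction e using Nat.strong_induction_on generalizing a with
  | _ e ih =>
    match e, h1, h2 with
    | 0, h1, _ => exact hp a (fun h => h1 ⟨h, rfl⟩)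
    | 1, _, h2 =>
      match a, h2 with
      | 0, h2 => exact absurd ⟨rfl, rfl⟩ h2
      | 1, _ => exact goodD_12
      | 2, _ => exact goodD_22
      | a + 3, _ =>
        have h := goodD_12.add (hp (a + 2) (by omega))
        rwa [show 1 + (a + 2) = a + 3 by omega] at h
    | 2, _, _ =>
      by_cases ha : a = 1
      · subst ha; exact goodD_14
      · simpa using (hp a ha).add goodD_04
    | 3, _, _ =>
      by_cases ha : a = 1
      · subst ha; exact goodD_12.add goodD_04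
      · simpa using (hp a ha).add goodD_06
    | e + 4, _, _ =>
      have h := (ih (e + 2) (by omega) a (by omega) (by omega)).add goodD_04
      rw [show e + 4 + (e + 4) = e + 2 + (e + 2) + 4 by omega]
      exact h

end CfsgLib.KnownB.OreSp
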