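import Mathlib

/-!
Isometries of alternating forms and the operator `g + g⁻¹`.
-/

set_option autoImplicit false

namespace CfsgLib.KnownB.OreSp

open Module Polynomial

variable {F V : Type*} [Field F] [AddCommGroup V] [Module F V]

/-- An isometry of a non-degenerate alternating form. -/
structure Isom (B : V →ₗ[F] V →ₗ[F] F) (g : V ≃ₗ[F] V) : Prop where
  alt : ∀ x, B x x = 0
  nondeg : ∀ x, (∀ y, B x y = 0) → x = 0
  pres : ∀ x y, B (g x) (g y) = B x y

/-- The operator `g + g⁻¹`. -/
def top' (g : V ≃ₗ[F] V) : End F V := g.toLinearMap + g.symm.toLinearMap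

/-- The operator `g - ε`. -/
def nil (g : V ≃ₗ[F] V) (ε : F) : End F V := g.toLinearMap - ε • 1

theorem top'_apply (g : V ≃ₗ[F] V) (x : V) : top' g x = g x + g.symm x := rfl

theorem nil_apply (g : V ≃ₗ[F] V) (ε : F) (x : V) : nil g ε x = g x - ε • x := rfl

theorem g_g (g : V ≃ₗ[F] V) (x : V) : g (g x) = g (top' g x) - x := by
  rw [top'_apply, map_add, g.apply_symm_apply, add_sub_cancel_right]

theorem top'_g (g : V ≃ₗ[F] V) (x : V) : top' g (g x) = g (top' g x) := by
  rw [top'_apply, top'_apply, map_add, g.symm_apply_apply, g.apply_symm_apply]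

theorem top'_symm (g : V ≃ₗ[F] V) (x : V) : top' g (g.symm x) = g.symm (top' g x) := by
  rw [top'_apply, top'_apply, map_add, g.symm_apply_apply, g.apply_symm_apply]

/-- Endomorphisms commuting with an operator commute with its polynomials. -/
theorem aeval_comm {A : End F V} {φ : V → V} (hφ : ∀ c : F, ∀ x y, φ (c • x + y) = c • φ x + φ y)
    (h : ∀ x, A (φ x) = φ (A x)) (P : F[X]) (x : V) : aeval A P (φ x) = φ (aeval A P x) := by
  have h0 : φ 0 = 0 := by simpa using hφ (-1) 0 0
  induction P using Polynomial.induction_on' with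
  | add p q hp hq =>
    rw [map_add, LinearMap.add_apply, LinearMap.add_apply, hp, hq]
    simpa using (hφ 1 _ _).symm
  | monomial n r =>
    have hn : ∀ k, (A ^ k) (φ x) = φ ((A ^ k) x) := by
      intro k
      induction k with
      | zero => simp
      | succ k ih => rw [pow_succ', Module.End.mul_apply, ih, h]; rfl
    rw [aeval_monomial, Module.End.mul_apply, Module.End.mul_apply, hn, Module.algebraMap_end_apply,
      Module.algebraMap_end_apply]
    simpa [h0] using (hφ r ((A ^ n) x) 0).symm

theorem aeval_g (g : V ≃ₗ[F] V) (P : F[X]) (x : V) :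
    aeval (top' g) P (g x) = g (aeval (top' g) P x) :=
  aeval_comm (fun c x y => by simp) (top'_g g) P x

theorem aeval_symm (g : V ≃ₗ[F] V) (P : F[X]) (x : V) :
    aeval (top' g) P (g.symm x) = g.symm (aeval (top' g) P x) :=
  aeval_comm (fun c x y => by simp) (top'_symm g) P x

theorem nil_g (g : V ≃ₗ[F] V) (ε : F) (k : ℕ) (x : V) :
    (nil g ε ^ k) (g x) = g ((nil g ε ^ k) x) := by
  induction k with
  | zero => simp
  | succ k ih =>
    rw [pow_succ', Module.End.mul_apply, ih, Module.End.mul_apply, nil_apply, nil_apply, map_sub,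
      map_smul]

variable {B : V →ₗ[F] V →ₗ[F] F} {g : V ≃ₗ[F] V}

namespace Isom

variable (hI : Isom B g)
include hI

theorem swap (x y : V) : B y x = -B x y := by
  have h := hI.alt (x + y)
  simp only [map_add, LinearMap.add_apply, hI.alt, zero_add, add_zero] at h
  exact eq_neg_of_add_eq_zero_left h

theorem nondeg_right (y : V) (h : ∀ x, B x y = 0) : y = 0 :=
  hI.nondeg y fun x => by rw [hI.swap, h, neg_zero]

theorem symm_left (x y : V) : B (g.symm x) y = B x (g y) := by
  conv_rhs => rw [← g.apply_symm_apply x]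
  rw [hI.pres]

theorem symm_right (x y : V) : B x (g.symm y) = B (g x) y := by
  conv_rhs => rw [← g.apply_symm_apply y]
  rw [hI.pres]

theorem top'_adjoint (x y : V) : B (top' g x) y = B x (top' g y) := by
  simp only [top'_apply, map_add, LinearMap.add_apply, hI.symm_left, hI.symm_right]
  rw [add_comm]

theorem aeval_adjoint (P : F[X]) (x y : V) :
    B (aeval (top' g) P x) y = B x (aeval (top' g) P y) := by
  induction P using Polynomial.induction_on' generalizing x y with
  | add p q hp hq => simp [hp, hq]
  | monomial n r =>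
    simp only [aeval_monomial, Module.End.mul_apply, Module.algebraMap_end_apply, map_smul,
      LinearMap.smul_apply]
    congr 1
    induction n generalizing x y with
    | zero => simp
    | succ n ih =>
      rw [pow_succ, Module.End.mul_apply, ih, hI.top'_adjoint, ← Module.End.mul_apply, ← pow_succ',
        pow_succ]

/-- Polynomials in `g + g⁻¹` move a vector inside its orthogonal. -/
theorem aeval_self (P : F[X]) (x : V) : B (aeval (top' g) P x) x = 0 := by
  induction P using Polynomial.induction_on' with
  | add p q hp hq => simp [hp, hq]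
  | monomial n r =>
    simp only [aeval_monomial, Module.End.mul_apply, Module.algebraMap_end_apply, map_smul,
      LinearMap.smul_apply, smul_eq_mul]
    refine mul_eq_zero_of_right _ ?_
    induction n using Nat.twoStepInduction generalizing x with
    | zero => simpa using hI.alt x
    | one =>
      rw [pow_one, top'_apply, map_add, LinearMap.add_apply, hI.symm_left, hI.swap (g x) x]
      exact add_neg_cancel _
    | more n ih _ =>
      rw [pow_succ', Module.End.mul_apply, hI.top'_adjoint, pow_succ, Module.End.mul_apply]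
      exact ih (top' g x)

theorem nil_adjoint {ε : F} (hε : ε * ε = 1) (x y : V) :
    B (nil g ε x) y = (-ε) * B x (g.symm (nil g ε y)) := by
  simp only [nil_apply, map_sub, map_smul, g.symm_apply_apply, LinearMap.sub_apply,
    LinearMap.smul_apply, smul_eq_mul, hI.symm_right]
  linear_combination (-(B (g x) y)) * hε

end Isom

/-- The orthogonal of a subspace. -/
def perp (B : V →ₗ[F] V →ₗ[F] F) (U : Submodule F V) : Submodule F V :=
  LinearMap.ker (B.compl₂ U.subtype)

theorem mem_perp {U : Submodule F V} {x : V} : x ∈ perp B U ↔ ∀ u ∈ U, B x u = 0 := by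
  simp [perp, LinearMap.ext_iff]

/-- Non-degeneracy on a subspace. -/
def Nondeg (B : V →ₗ[F] V →ₗ[F] F) (U : Submodule F V) : Prop :=
  ∀ x ∈ U, (∀ u ∈ U, B x u = 0) → x = 0

variable [FiniteDimensional F V]

theorem Isom.finrank_perp (_hI : Isom B g) (U : Submodule F V) :
    finrank F V ≤ finrank F (perp B U) + finrank F U := by
  have h1 := (B.compl₂ U.subtype).finrank_range_add_finrank_ker
  have h2 : finrank F (LinearMap.range (B.compl₂ U.subtype)) ≤ finrank F (U →ₗ[F] F) :=
    Submodule.finrank_le _
  rw [show finrank F (U →ₗ[F] F) = finrank F U from Subspace.dual_finrank_eq] at h2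
  exact le_trans (le_of_eq h1.symm) (by rw [add_comm]; exact Nat.add_le_add_left h2 _)

theorem Isom.isCompl (hI : Isom B g) {U : Submodule F V} (hU : Nondeg B U) :
    IsCompl U (perp B U) := by
  have hd : Disjoint U (perp B U) := Submodule.disjoint_def.2 fun x hx hp => hU x hx (mem_perp.1 hp)
  refine ⟨hd, codisjoint_iff.2 (Submodule.eq_top_of_finrank_eq (le_antisymm (Submodule.finrank_le _) ?_))⟩
  have := Submodule.finrank_sup_add_finrank_inf_eq U (perp B U)
  rw [disjoint_iff.1 hd, finrank_bot, add_zero] at this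
  have := hI.finrank_perp U
  omega

theorem Isom.nondeg_perp (hI : Isom B g) {U : Submodule F V} (hU : Nondeg B U) :
    Nondeg B (perp B U) := by
  refine fun x hx h => hI.nondeg x fun y => ?_
  obtain ⟨a, ha, b, hb, rfl⟩ := Submodule.mem_sup.1
    ((hI.isCompl hU).sup_eq_top ▸ Submodule.mem_top : y ∈ U ⊔ perp B U)
  rw [map_add, mem_perp.1 hx a ha, h b hb, add_zero]

theorem map_eq_of_le {U : Submodule F V} (hU : ∀ x ∈ U, g x ∈ U) :
    U.map (g : V →ₗ[F] V) = U :=
  Submodule.eq_of_le_of_finrank_eq (Submodule.map_le_iff_le_comap.2 hU) (g.finrank_map_eq U)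

theorem symm_mem {U : Submodule F V} (hU : ∀ x ∈ U, g x ∈ U) {x : V} (hx : x ∈ U) :
    g.symm x ∈ U := by
  obtain ⟨y, hy, rfl⟩ := (map_eq_of_le hU).symm ▸ hx
  simpa using hy

theorem Isom.perp_invariant (hI : Isom B g) {U : Submodule F V} (hU : ∀ x ∈ U, g x ∈ U) :
    ∀ x ∈ perp B U, g x ∈ perp B U := fun x hx => mem_perp.2 fun u hu => by
  rw [← hI.symm_right]; exact mem_perp.1 hx _ (symm_mem hU hu)

/-- A vector orthogonal to the orthogonal of `W` lies in `W`. -/
theorem Isom.mem_of_perp_perp (hI : Isom B g) {W : Submodule F V} {z : V}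
    (h : ∀ y ∈ perp B W, B y z = 0) : z ∈ W := by
  by_contra hz
  obtain ⟨φ, hφz, hφ⟩ := Submodule.exists_dual_map_eq_bot_of_notMem hz inferInstance
  have hφ0 : ∀ w ∈ W, φ w = 0 := fun w hw =>
    (Submodule.eq_bot_iff _).1 hφ _ (Submodule.mem_map_of_mem hw)
  have hbij : Function.Surjective B := by
    refine (LinearMap.injective_iff_surjective_of_finrank_eq_finrank Subspace.dual_finrank_eq.symm).1 ?_
    rw [injective_iff_map_eq_zero]
    exact fun x hx => hI.nondeg x fun y => by rw [hx, LinearMap.zero_apply]
  obtain ⟨y, rfl⟩ := hbij φ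
  exact hφz (h y (mem_perp.2 hφ0))

end CfsgLib.KnownB.OreSp
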