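import Cfsg.Agent.Lib.KnownB.OreSp.Poly
import Cfsg.Agent.Lib.Classical.SympBasic

/-!
Commutators from the top left corner in the symplectic group.
-/

set_option autoImplicit false

namespace CfsgLib.KnownB.OreSp

open Matrix Polynomial

variable {l : Type*} [Fintype l] [DecidableEq l] {F : Type*} [Field F]

local notation "Sp" => Matrix.symplecticGroup l F
local notation "Ml" => Matrix l l F

/-- Being a commutator. -/
def IsComm (g : Sp) : Prop := ∃ a b : Sp, g = a * b * a⁻¹ * b⁻¹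

theorem IsComm.conj {g : Sp} (h : IsComm g) (c : Sp) : IsComm (c * g * c⁻¹) := by
  obtain ⟨a, b, rfl⟩ := h
  exact ⟨c * a * c⁻¹, c * b * c⁻¹, by group⟩

theorem IsComm.of_conj {g : Sp} (c : Sp) (h : IsComm (c⁻¹ * g * c)) : IsComm g := by
  simpa [mul_assoc] using h.conj c

/-- The Levi element of `A`. -/
noncomputable def lev (A : Ml) (h : IsUnit A.det) : Sp :=
  ⟨fromBlocks A 0 0 (Aᵀ)⁻¹, by
    rw [SymplecticGroup.mem_iff']
    simp [Matrix.J, fromBlocks_transpose, fromBlocks_multiply, transpose_nonsing_inv,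
      Matrix.nonsing_inv_mul _ h, Matrix.mul_nonsing_inv _ (isUnit_det_transpose _ h)]⟩

/-- The upper unipotent element of a symmetric matrix. -/
def upU (S : Ml) (h : Sᵀ = S) : Sp :=
  ⟨fromBlocks 1 S 0 1, by
    rw [SymplecticGroup.mem_iff']
    simp [Matrix.J, fromBlocks_transpose, fromBlocks_multiply, h]⟩

/-- The lower unipotent element of a symmetric matrix. -/
def lowL (S : Ml) (h : Sᵀ = S) : Sp :=
  ⟨fromBlocks 1 0 S 1, by
    rw [SymplecticGroup.mem_iff']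
    simp [Matrix.J, fromBlocks_transpose, fromBlocks_multiply, h]⟩

theorem block_rel (g : Sp) {M B N D : Ml} (hg : g.1 = fromBlocks M B N D) :
    Nᵀ * M = Mᵀ * N ∧ B * Mᵀ = M * Bᵀ ∧ Mᵀ * D - Nᵀ * B = 1 := by
  have h1 := SymplecticGroup.mem_iff'.1 g.2
  have h2 := SymplecticGroup.mem_iff.1 g.2
  rw [hg] at h1 h2
  simp [Matrix.J, fromBlocks_transpose, fromBlocks_multiply] at h1 h2
  obtain ⟨a1, a2, -, -⟩ := h1
  obtain ⟨b1, -, -, -⟩ := h2
  refine ⟨?_, ?_, ?_⟩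
  · rwa [← sub_eq_add_neg, sub_eq_zero] at a1
  · rwa [← sub_eq_add_neg, sub_eq_zero] at b1
  · linear_combination (norm := module) -a2

/-- The Siegel Gauss decomposition. -/
theorem gauss (g : Sp) {M B N D : Ml} (hg : g.1 = fromBlocks M B N D) (hM : IsUnit M.det) :
    ∃ (K U : Ml) (hK : Kᵀ = K) (hU : Uᵀ = U), g = lowL K hK * lev M hM * upU U hU := by
  obtain ⟨h1, h2, h3⟩ := block_rel g hg
  have hMT : IsUnit (Mᵀ).det := isUnit_det_transpose _ hM
  have hK : (N * M⁻¹)ᵀ = N * M⁻¹ := by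
    rw [Matrix.transpose_mul, Matrix.transpose_nonsing_inv]
    calc (Mᵀ)⁻¹ * Nᵀ = (Mᵀ)⁻¹ * (Nᵀ * M) * M⁻¹ := by
          rw [Matrix.mul_assoc, Matrix.mul_assoc, Matrix.mul_nonsing_inv _ hM, Matrix.mul_one]
      _ = N * M⁻¹ := by rw [h1, ← Matrix.mul_assoc, Matrix.nonsing_inv_mul _ hMT, Matrix.one_mul]
  have hU : (M⁻¹ * B)ᵀ = M⁻¹ * B := by
    rw [Matrix.transpose_mul, Matrix.transpose_nonsing_inv]
    calc Bᵀ * (Mᵀ)⁻¹ = M⁻¹ * (M * Bᵀ) * (Mᵀ)⁻¹ := by
          rw [← Matrix.mul_assoc M⁻¹, Matrix.nonsing_inv_mul _ hM, Matrix.one_mul]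
      _ = M⁻¹ * B := by
          rw [← h2, Matrix.mul_assoc, Matrix.mul_assoc, Matrix.mul_nonsing_inv _ hMT, Matrix.mul_one]
  refine ⟨_, _, hK, hU, Subtype.ext ?_⟩
  rw [hg, Submonoid.coe_mul, Submonoid.coe_mul]
  simp only [lowL, lev, upU, fromBlocks_multiply, Matrix.one_mul, Matrix.mul_one, Matrix.zero_mul,
    Matrix.mul_zero, add_zero, zero_add]
  rw [Matrix.mul_nonsing_inv_cancel_left _ _ hM, Matrix.nonsing_inv_mul_cancel_right _ _ hM]
  congr 1
  have hD : D = (Mᵀ)⁻¹ * (1 + Nᵀ * B) := by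
    rw [← h3, sub_add_cancel, Matrix.nonsing_inv_mul_cancel_left _ _ hMT]
  rw [hD, Matrix.mul_add, Matrix.mul_one, ← Matrix.mul_assoc, ← Matrix.mul_assoc, add_comm]
  congr 1
  rw [← Matrix.transpose_nonsing_inv, ← Matrix.transpose_mul, hK]

theorem lev_mul (A B : Ml) (hA : IsUnit A.det) (hB : IsUnit B.det) :
    lev A hA * lev B hB = lev (A * B) (by rw [Matrix.det_mul]; exact hA.mul hB) := by
  refine Subtype.ext ?_
  simp [lev, fromBlocks_multiply, Matrix.transpose_mul, Matrix.mul_inv_rev]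

theorem lev_congr {A B : Ml} (hA : IsUnit A.det) (hB : IsUnit B.det) (e : A = B) :
    lev A hA = lev B hB := by subst e; rfl

theorem lev_inv (A : Ml) (hA : IsUnit A.det) :
    (lev A hA)⁻¹ = lev A⁻¹ (Matrix.isUnit_nonsing_inv_det _ hA) := by
  refine inv_eq_of_mul_eq_one_right (Subtype.ext ?_)
  rw [lev_mul]
  simp [lev, Matrix.mul_nonsing_inv _ hA, fromBlocks_one]

variable [Finite F]

omit [DecidableEq l] in
theorem exists_symm_preimage (A : Ml) (hinj : ∀ T : Ml, Aᵀ * T * A = T → T = 0) (K : Ml)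
    (hK : Kᵀ = K) : ∃ T : Ml, Tᵀ = T ∧ T - Aᵀ * T * A = K := by
  let f : {T : Ml // Tᵀ = T} → {T : Ml // Tᵀ = T} := fun T =>
    ⟨T.1 - Aᵀ * T.1 * A, by simp [Matrix.transpose_sub, Matrix.transpose_mul, T.2, Matrix.mul_assoc]⟩
  have hf : Function.Injective f := by
    intro S T e
    have e' : S.1 - Aᵀ * S.1 * A = T.1 - Aᵀ * T.1 * A := congrArg Subtype.val e
    refine Subtype.ext (sub_eq_zero.1 (hinj _ ?_))
    rw [Matrix.mul_sub, Matrix.sub_mul]
    linear_combination (norm := module) -e'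
  obtain ⟨T, hT⟩ := Finite.surjective_of_injective hf ⟨K, hK⟩
  exact ⟨T.1, T.2, congrArg Subtype.val hT⟩

theorem isConj_lev_upU (A : Ml) (hu : IsUnit A.det) (hinj : ∀ T : Ml, A * T * Aᵀ = T → T = 0)
    (U : Ml) (hU : Uᵀ = U) : IsConj (lev A hu) (lev A hu * upU U hU) := by
  obtain ⟨T, hT, hTU⟩ := exists_symm_preimage Aᵀ (by simpa using hinj) (-(A * U * Aᵀ))
    (by simp [Matrix.transpose_mul, hU, Matrix.mul_assoc])
  rw [Matrix.transpose_transpose] at hTU
  refine isConj_iff.2 ⟨upU (-T) (by simp [hT]), ?_⟩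
  rw [mul_inv_eq_iff_eq_mul]
  refine Subtype.ext ?_
  simp only [Submonoid.coe_mul, lev, upU, fromBlocks_multiply, Matrix.one_mul, Matrix.mul_one,
    Matrix.zero_mul, Matrix.mul_zero, add_zero, zero_add]
  congr 1
  have e : -T = -(A * T * Aᵀ) + A * U * Aᵀ := by linear_combination (norm := module) -hTU
  conv_lhs => rw [e]
  rw [Matrix.add_mul, Matrix.neg_mul, Matrix.mul_neg,
    Matrix.mul_nonsing_inv_cancel_right _ _ (isUnit_det_transpose _ hu),
    Matrix.mul_nonsing_inv_cancel_right _ _ (isUnit_det_transpose _ hu)]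

theorem isConj_lowL_lev (A : Ml) (hu : IsUnit A.det) (hinj : ∀ T : Ml, Aᵀ * T * A = T → T = 0)
    (K : Ml) (hK : Kᵀ = K) : IsConj (lev A hu) (lowL K hK * lev A hu) := by
  have hT' := isUnit_det_transpose _ hu
  obtain ⟨T, hT, hTK⟩ := exists_symm_preimage A hinj (-(Aᵀ * K * A))
    (by simp [Matrix.transpose_mul, hK, Matrix.mul_assoc])
  refine isConj_iff.2 ⟨lowL T hT, ?_⟩
  rw [mul_inv_eq_iff_eq_mul]
  refine Subtype.ext ?_
  simp only [Submonoid.coe_mul, lev, lowL, fromBlocks_multiply, Matrix.one_mul, Matrix.mul_one,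
    Matrix.zero_mul, Matrix.mul_zero, add_zero, zero_add]
  congr 1
  have e : T = Aᵀ * (T * A - K * A) := by
    rw [Matrix.mul_sub, ← Matrix.mul_assoc, ← Matrix.mul_assoc]
    linear_combination (norm := module) hTK
  have e2 : (Aᵀ)⁻¹ * T = T * A - K * A := by
    conv_lhs => rw [e]
    rw [Matrix.nonsing_inv_mul_cancel_left _ _ hT']
  rw [e2, add_sub_cancel]

/-- `M` is the quotient of two conjugates of a matrix killed by `Φ`. -/
def GoodM {k : Type*} [Fintype k] [DecidableEq k] (Φ : F[X]) (M : Matrix k k F) : Prop :=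
  ∃ L P : Matrix k k F, IsUnit L.det ∧ IsUnit P.det ∧ M * L * P = P * L ∧ aeval L Φ = 0

omit [Finite F] in
theorem GoodM.isUnit {Φ : F[X]} {M : Ml} (h : GoodM Φ M) : IsUnit M.det := by
  obtain ⟨L, P, hL, hP, e, -⟩ := h
  have := congrArg Matrix.det e
  rw [Matrix.det_mul, Matrix.det_mul, Matrix.det_mul, mul_comm P.det, mul_assoc] at this
  have hne : L.det * P.det ≠ 0 := mul_ne_zero hL.ne_zero hP.ne_zero
  rw [show M.det = 1 from mul_right_cancel₀ hne (by rw [this, one_mul])]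
  exact isUnit_one

omit [Finite F] in
theorem GoodM.similar {Φ : F[X]} {M Q : Ml} (hQ : IsUnit Q.det) (h : GoodM Φ M) :
    GoodM Φ (Q * M * Q⁻¹) := by
  obtain ⟨L, P, hL, hP, e, hz⟩ := h
  have hQi := Matrix.isUnit_nonsing_inv_det _ hQ
  have key : ∀ X Y : Ml, Q * X * Q⁻¹ * (Q * Y * Q⁻¹) = Q * (X * Y) * Q⁻¹ := fun X Y => by
    simp only [Matrix.mul_assoc, Matrix.nonsing_inv_mul_cancel_left _ _ hQ]
  refine ⟨Q * L * Q⁻¹, Q * P * Q⁻¹, ?_, ?_, ?_, ?_⟩
  · simpa only [Matrix.det_mul] using (hQ.mul hL).mul hQi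
  · simpa only [Matrix.det_mul] using (hQ.mul hP).mul hQi
  · rw [key, key, key, e]
  · have h1 := aeval_semiconj (A := L) (Y := Q * L * Q⁻¹) (T := Q)
      (by rw [Matrix.nonsing_inv_mul_cancel_right _ _ hQ]) Φ
    rw [hz, mul_zero] at h1
    exact ((Matrix.isUnit_iff_isUnit_det _).2 hQ).mul_left_eq_zero.1 h1.symm

/-- An element whose corner is good is a commutator. -/
theorem isComm_of_corner {Φ : F[X]} (hΦ : Apart Φ) (g : Sp) (hM : GoodM Φ g.1.toBlocks₁₁) :
    IsComm g := by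
  obtain ⟨K, U, hK, hU, hg⟩ := gauss g (fromBlocks_toBlocks g.1).symm hM.isUnit
  have hu := hM.isUnit
  obtain ⟨L, P, hL, hP, e, hz⟩ := hM
  set M := g.1.toBlocks₁₁
  have hA : IsUnit (M * L).det := by rw [Matrix.det_mul]; exact hu.mul hL
  have hLi := Matrix.isUnit_nonsing_inv_det _ hL
  have e' : M * L = P * L * P⁻¹ := by rw [← e, Matrix.mul_nonsing_inv_cancel_right _ _ hP]
  have hzA : aeval (M * L) Φ = 0 := by
    have h1 := aeval_semiconj (A := L) (Y := M * L) (T := P) (by rw [e]) Φ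
    rw [hz, mul_zero] at h1
    exact ((Matrix.isUnit_iff_isUnit_det _).2 hP).mul_left_eq_zero.1 h1.symm
  have c1 : IsConj (lev L hL) (lev (M * L) hA) := by
    refine isConj_iff.2 ⟨lev P hP, ?_⟩
    rw [mul_inv_eq_iff_eq_mul, lev_mul, lev_mul]
    exact lev_congr _ _ e.symm
  have c2 : IsConj (lev L hL) (lowL K hK * lev (M * L) hA) :=
    c1.trans (isConj_lowL_lev _ hA (fun T hT => eq_zero_of_form hΦ hA hzA hT) K hK)
  have c3 : IsConj (lev L hL)⁻¹ (lev L⁻¹ hLi * upU U hU) := by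
    rw [lev_inv]
    refine isConj_lev_upU _ hLi (fun T hT => ?_) U hU
    refine eq_zero_of_form hΦ (A := Lᵀ) (isUnit_det_transpose _ hL)
      (by rw [aeval_transpose, hz, Matrix.transpose_zero]) ?_
    rw [Matrix.transpose_transpose]
    conv_lhs => rw [← hT]
    rw [Matrix.transpose_nonsing_inv, Matrix.mul_assoc L⁻¹,
      Matrix.mul_nonsing_inv_cancel_left _ _ hL,
      Matrix.nonsing_inv_mul_cancel_right _ _ (isUnit_det_transpose _ hL)]
  obtain ⟨c, hc⟩ := isConj_iff.1 c2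
  obtain ⟨d, hd⟩ := isConj_iff.1 c3
  refine IsComm.of_conj d ⟨d⁻¹ * c, lev L hL, ?_⟩
  have hsplit : g = lowL K hK * lev (M * L) hA * (lev L⁻¹ hLi * upU U hU) := by
    rw [hg, lev_congr hu (by rw [Matrix.det_mul, Matrix.det_mul]; exact (hu.mul hL).mul hLi)
      (Matrix.mul_nonsing_inv_cancel_right L M hL).symm, ← lev_mul (M * L) L⁻¹ hA hLi]
    simp only [mul_assoc]
  rw [hsplit, ← hc, ← hd]
  group

end CfsgLib.KnownB.OreSp
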