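import Cfsg.Agent.Lib.KnownB.OreSp.Frame

/-!
The three cases for an isometry: a splitting, a piece, or a short nilpotent part.
-/

set_option autoImplicit false

namespace CfsgLib.KnownB.OreSp

open Module Polynomial

variable {F V : Type*} [Field F] [AddCommGroup V] [Module F V]

/-- A prime power divides the members of an ideal missing the previous power. -/
theorem pow_dvd_of_not {p : F[X]} (hp : Prime p) {e : ℕ} (S : F[X] → Prop)
    (hmul : ∀ a k, S a → S (k * a)) (hadd : ∀ a k, S a → S (a + k * p ^ e))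
    (hne : ¬ S (p ^ (e - 1))) {a : F[X]} (ha : S a) : p ^ e ∣ a := by
  suffices ∀ i ≤ e, p ^ i ∣ a from this e le_rfl
  intro i
  induction i with
  | zero => simp
  | succ i ih =>
    intro hi
    obtain ⟨a', rfl⟩ := ih (by omega)
    rw [pow_succ]
    refine mul_dvd_mul_left _ ?_
    by_contra hd
    obtain ⟨u, w, huw⟩ : IsCoprime a' (p ^ e) :=
      ((hp.irreducible.coprime_iff_not_dvd.2 hd).symm).pow_right
    refine hne ?_
    have h := hadd _ (p ^ (e - 1) * w) (hmul _ (p ^ (e - 1 - i) * u) ha)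
    have hpow : p ^ (e - 1) = p ^ (e - 1 - i) * p ^ i := by rw [← pow_add]; congr 1; omega
    convert h using 1
    linear_combination hpow * u * a' + (-(p ^ (e - 1))) * huw

theorem sgn_of_sq {ε : F} (hε : ε * ε = 1) : ε = 1 ∨ ε = -1 := mul_self_eq_one_iff.1 hε

variable {B : V →ₗ[F] V →ₗ[F] F} {g : V ≃ₗ[F] V}

theorem nil_commute (g : V ≃ₗ[F] V) (ε : F) : Commute (nil g ε) g.toLinearMap :=
  LinearMap.ext fun x => by
    change nil g ε (g x) = g (nil g ε x)
    simpa using nil_g g ε 1 x

theorem nil_sq (g : V ≃ₗ[F] V) {ε : F} (hε : ε * ε = 1) :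
    nil g ε * nil g ε = g.toLinearMap * aeval (top' g) (X - C (2 * ε)) := by
  refine LinearMap.ext fun x => ?_
  simp only [Module.End.mul_apply, nil_apply, map_sub, map_smul, aeval_X, aeval_C,
    LinearMap.sub_apply, Module.algebraMap_end_apply, LinearEquiv.coe_coe]
  rw [g_g, smul_sub, smul_smul, hε]
  module

theorem nil_pow_two_mul (g : V ≃ₗ[F] V) {ε : F} (hε : ε * ε = 1) (k : ℕ) :
    nil g ε ^ (2 * k) = g.toLinearMap ^ k * aeval (top' g) ((X - C (2 * ε)) ^ k) := by
  rw [pow_mul, sq, nil_sq g hε, map_pow]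
  exact Commute.mul_pow (LinearMap.ext fun x => (aeval_g g _ x).symm) k

theorem pow_eigen (g : V ≃ₗ[F] V) {ε : F} {z : V} (h : g z = ε • z) (k : ℕ) :
    (g.toLinearMap ^ k) z = ε ^ k • z := by
  induction k with
  | zero => simp
  | succ k ih =>
    rw [pow_succ', Module.End.mul_apply, ih, map_smul, LinearEquiv.coe_coe, h, smul_smul, pow_succ]

/-- The map `a ↦ a(g + g⁻¹) x`. -/
noncomputable def orb (g : V ≃ₗ[F] V) (x : V) : F[X] →ₗ[F] V :=
  (LinearMap.applyₗ x) ∘ₗ (aeval (top' g) : F[X] →ₐ[F] End F V).toLinearMap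

@[simp] theorem orb_apply (g : V ≃ₗ[F] V) (x : V) (a : F[X]) : orb g x a = aeval (top' g) a x := rfl

theorem orb_top' (g : V ≃ₗ[F] V) (x : V) (a : F[X]) : top' g (orb g x a) = orb g x (X * a) := by
  simp [Module.End.mul_apply]

theorem aeval_aeval (g : V ≃ₗ[F] V) (a b : F[X]) (x : V) :
    aeval (top' g) a (aeval (top' g) b x) = aeval (top' g) (a * b) x := by
  simp [Module.End.mul_apply]

theorem Isom.orb_iso (hI : Isom B g) (x : V) (a b : F[X]) : B (orb g x a) (orb g x b) = 0 := by
  rw [orb_apply, orb_apply, ← hI.aeval_adjoint, aeval_aeval]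
  exact hI.aeval_self _ x

theorem Isom.g_aeval (hI : Isom B g) (a c : F[X]) (x y : V) :
    B (g (aeval (top' g) a x)) (aeval (top' g) c y) = B (g (aeval (top' g) (c * a) x)) y := by
  rw [← hI.aeval_adjoint, aeval_g, aeval_aeval]

theorem cyclic_piece (hI : Isom B g) {p : F[X]} (hp : Prime p) {e : ℕ}
    (hk : aeval (top' g) (p ^ e) = 0) {x : V}
    (hx : B (g (aeval (top' g) (p ^ (e - 1)) x)) x ≠ 0) :
    ∃ W, W ≠ ⊥ ∧ Piece B g W := by
  refine ⟨LinearMap.range (orb g x), fun h => hx ?_, ⟨?_, ?_, ?_⟩⟩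
  · have : orb g x 1 ∈ LinearMap.range (orb g x) := LinearMap.mem_range_self _ _
    rw [h, Submodule.mem_bot, orb_apply, map_one, Module.End.one_apply] at this
    simp [this]
  · rintro _ ⟨a, rfl⟩ _ ⟨b, rfl⟩
    exact hI.orb_iso x a b
  · rintro _ ⟨a, rfl⟩
    exact ⟨X * a, (orb_top' g x a).symm⟩
  · rintro _ ⟨a, rfl⟩ h
    have hd : p ^ e ∣ a := by
      refine pow_dvd_of_not hp (e := e) (fun a => ∀ c, B (g (orb g x a)) (orb g x c) = 0) ?_ ?_ ?_
        (fun c => h _ (LinearMap.mem_range_self _ c))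
      · intro a k ha c
        rw [orb_apply, orb_apply, hI.g_aeval, ← mul_assoc, ← hI.g_aeval]
        exact ha (c * k)
      · intro a k ha c
        simp only [orb_apply, map_add, map_mul, hk, mul_zero, LinearMap.zero_apply,
          add_zero]
        exact ha c
      · intro h'
        exact hx (by simpa using h' 1)
    obtain ⟨k, rfl⟩ := hd
    rw [orb_apply, map_mul, hk, zero_mul, LinearMap.zero_apply]

theorem aeval_top_eval (g : V ≃ₗ[F] V) {r : F} {e : ℕ} (he : 1 ≤ e)
    (hk : aeval (top' g) ((X - C r) ^ e) = 0) (a : F[X]) (z : V) :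
    aeval (top' g) ((X - C r) ^ (e - 1) * a) z =
      a.eval r • aeval (top' g) ((X - C r) ^ (e - 1)) z := by
  obtain ⟨q, hq⟩ : X - C r ∣ a - C (a.eval r) := X_sub_C_dvd_sub_C_eval
  have : (X - C r) ^ (e - 1) * a =
      (X - C r) ^ e * q + C (a.eval r) * (X - C r) ^ (e - 1) := by
    obtain ⟨k, rfl⟩ := Nat.exists_eq_add_of_le he
    rw [show 1 + k - 1 = k by omega, pow_add, pow_one]
    linear_combination (X - C r) ^ k * hq
  rw [this, map_add, map_mul, hk, zero_mul, zero_add, map_mul, aeval_C, Module.End.mul_apply,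
    Module.algebraMap_end_apply]

variable [FiniteDimensional F V]

theorem double_piece (hI : Isom B g) {ε : F} (hε : ε * ε = 1) {e : ℕ} (he : 1 ≤ e)
    (hk : aeval (top' g) ((X - C (2 * ε)) ^ e) = 0)
    (hself : ∀ v, B (g (aeval (top' g) ((X - C (2 * ε)) ^ (e - 1)) v)) v = 0) {x : V}
    (hx : nil g ε (aeval (top' g) ((X - C (2 * ε)) ^ (e - 1)) x) ≠ 0) :
    ∃ W, W ≠ ⊥ ∧ Piece B g W := by
  set P : F[X] := X - C (2 * ε) with hP
  set z := aeval (top' g) (P ^ (e - 1)) x with hz
  have hp : Prime P := prime_X_sub_C _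
  have hz0 : z ≠ 0 := fun h => hx (by rw [h, map_zero])
  obtain ⟨y, hy, hyz⟩ : ∃ y ∈ perp B (LinearMap.range (orb g x)), B y (g z) ≠ 0 := by
    by_contra hcon
    push Not at hcon
    obtain ⟨a, ha⟩ := hI.mem_of_perp_perp hcon
    rw [orb_apply] at ha
    have hsoc : aeval (top' g) (P * a) x = 0 := by
      rw [← aeval_aeval, ha, aeval_g, hz, aeval_aeval, ← pow_succ', Nat.sub_add_cancel he, hk]
      simp
    have hd : P ^ e ∣ P * a := by
      refine pow_dvd_of_not hp (fun a => aeval (top' g) a x = 0) ?_ ?_ hz0 hsoc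
      · intro a k h; rw [← aeval_aeval, h, map_zero]
      · intro a k h; simp [hk, h]
    rw [← Nat.sub_add_cancel he, pow_succ'] at hd
    obtain ⟨a', rfl⟩ := (mul_dvd_mul_iff_left hp.ne_zero).1 hd
    rw [aeval_top_eval g he hk, ← hz] at ha
    have hN : ∀ k, (nil g ε ^ k) z = (a'.eval (2 * ε) - ε) ^ k • z := by
      intro k
      induction k with
      | zero => simp
      | succ k ih =>
        rw [pow_succ', Module.End.mul_apply, ih, map_smul, nil_apply, ← ha, ← sub_smul, smul_smul,
          pow_succ]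
    have h0 : (nil g ε ^ (2 * e)) z = 0 := by rw [nil_pow_two_mul g hε, hk]; simp
    rw [hN] at h0
    have := pow_eq_zero_iff (n := 2 * e) (by omega) |>.1 ((smul_eq_zero.1 h0).resolve_right hz0)
    exact hx (by rw [← pow_one (nil g ε), hN, this, zero_pow one_ne_zero, zero_smul])
  have hyo : ∀ a b : F[X], B (orb g y b) (orb g x a) = 0 := fun a b => by
    rw [orb_apply, orb_apply, hI.aeval_adjoint, aeval_aeval]
    exact mem_perp.1 hy _ ⟨b * a, rfl⟩
  refine ⟨LinearMap.range ((orb g x).coprod (orb g y)), fun h => hz0 ?_, ⟨?_, ?_, ?_⟩⟩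
  · have : (orb g x).coprod (orb g y) (P ^ (e - 1), 0) ∈
        LinearMap.range ((orb g x).coprod (orb g y)) := LinearMap.mem_range_self _ _
    rw [h, Submodule.mem_bot] at this
    simpa [hz] using this
  · rintro _ ⟨⟨a, b⟩, rfl⟩ _ ⟨⟨c, d⟩, rfl⟩
    simp only [LinearMap.coprod_apply, map_add, LinearMap.add_apply, hI.orb_iso, hyo, add_zero,
      zero_add]
    rw [hI.swap (orb g y d) (orb g x a), hyo, neg_zero]
  · rintro _ ⟨⟨a, b⟩, rfl⟩
    exact ⟨(X * a, X * b), by simp only [LinearMap.coprod_apply, map_add, orb_top']⟩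
  · rintro _ ⟨⟨a, b⟩, rfl⟩ h
    simp only [LinearMap.coprod_apply] at h ⊢
    have hd : ∀ i ≤ e, P ^ i ∣ a ∧ P ^ i ∣ b := by
      intro i
      induction i with
      | zero => simp
      | succ i ih =>
        intro hi
        obtain ⟨⟨a', rfl⟩, b', rfl⟩ := ih (by omega)
        have hpow : P ^ (e - 1 - i) * P ^ i = P ^ (e - 1) := by
          rw [← pow_add]; congr 1; omega
        have key : ∀ t ∈ [x, y],
            a'.eval (2 * ε) * B (g z) t +
              b'.eval (2 * ε) * B (g (aeval (top' g) (P ^ (e - 1)) y)) t = 0 := by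
          intro t ht
          have ht' : aeval (top' g) (P ^ (e - 1 - i)) t ∈
              LinearMap.range ((orb g x).coprod (orb g y)) := by
            simp only [List.mem_cons, List.not_mem_nil, or_false] at ht
            rcases ht with rfl | rfl
            exacts [⟨(P ^ (e - 1 - i), 0), by simp⟩, ⟨(0, P ^ (e - 1 - i)), by simp⟩]
          have h' := h _ ht'
          simp only [map_add, LinearMap.add_apply, orb_apply, hI.g_aeval, ← mul_assoc, hpow] at h'
          rw [aeval_top_eval g he hk, aeval_top_eval g he hk, ← hz] at h'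
          simp only [map_smul, LinearMap.smul_apply, smul_eq_mul] at h'
          exact h'
        have hθ : B (g z) y ≠ 0 := by rw [hI.swap]; exact neg_ne_zero.2 hyz
        have hθ' : B (g (aeval (top' g) (P ^ (e - 1)) y)) x ≠ 0 := by
          rw [← aeval_g, hI.aeval_adjoint, ← hz, ← hI.symm_right]
          have e1 : g.symm z = aeval (top' g) (X : F[X]) z - g z := by
            rw [aeval_X, top'_apply]; abel
          rw [e1, map_sub, hz, aeval_aeval]
          rw [show B y (aeval (top' g) (X * P ^ (e - 1)) x) = 0 from mem_perp.1 hy _ ⟨_, rfl⟩,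
            zero_sub, ← hz]
          exact neg_ne_zero.2 hyz
        have kx := key x (by simp)
        have ky := key y (by simp)
        rw [hself, mul_zero, zero_add] at kx
        rw [hself, mul_zero, add_zero] at ky
        rw [pow_succ]
        exact ⟨mul_dvd_mul_left _ (dvd_iff_isRoot.2 ((mul_eq_zero.1 ky).resolve_right hθ)),
          mul_dvd_mul_left _ (dvd_iff_isRoot.2 ((mul_eq_zero.1 kx).resolve_right hθ'))⟩
    obtain ⟨⟨a', rfl⟩, b', rfl⟩ := hd e le_rfl
    simp [hk]

/-- The three cases. -/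
theorem three_cases (hI : Isom B g) [Nontrivial V] :
    (∃ U : Submodule F V, U ≠ ⊥ ∧ U ≠ ⊤ ∧ Nondeg B U ∧ ∀ x ∈ U, g x ∈ U) ∨
    (∃ W : Submodule F V, W ≠ ⊥ ∧ Piece B g W) ∨
    ∃ (ε : F) (m : ℕ), ε * ε = 1 ∧ Even m ∧ nil g ε ^ (m + 1) = 0 ∧ nil g ε ^ m ≠ 0 ∧
      ∀ v, B ((nil g ε ^ m) v) v = 0 := by
  have hq0 : minpoly F (top' g) ≠ 0 := minpoly.ne_zero (Algebra.IsIntegral.isIntegral _)
  obtain ⟨p, hpm, hpi, hpd⟩ := exists_monic_irreducible_factor (minpoly F (top' g))
    (minpoly.not_isUnit F (top' g))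
  obtain ⟨s, hs, hps⟩ := (FiniteMultiplicity.of_prime_left hpi.prime hq0).exists_eq_pow_mul_and_not_dvd
  set e := multiplicity p (minpoly F (top' g))
  have he : 1 ≤ e := by
    by_contra h
    rw [show e = 0 by omega, pow_zero, one_mul] at hs
    exact hps (hs ▸ hpd)
  by_cases hsu : IsUnit s
  swap
  · left
    have hcop : IsCoprime (p ^ e) s := (hpi.coprime_iff_not_dvd.2 hps).pow_left
    obtain ⟨c, d, hcd⟩ := hcop
    refine ⟨LinearMap.ker (aeval (top' g) (p ^ e)), fun h => ?_, fun h => ?_, fun x hx h => ?_,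
      fun x hx => by rw [LinearMap.mem_ker] at hx ⊢; rw [aeval_g, hx, map_zero]⟩
    · have h0 : aeval (top' g) s = 0 := by
        refine LinearMap.ext fun v => LinearMap.ker_eq_bot.1 h ?_
        rw [LinearMap.zero_apply, map_zero, aeval_aeval, ← hs, minpoly.aeval]
        simp
      have hd := minpoly.dvd F (top' g) h0
      rw [hs] at hd
      have hs0 : s ≠ 0 := fun e' => hq0 (by rw [hs, e', mul_zero])
      have hd' : p ^ e * s ∣ 1 * s := by rwa [one_mul]
      exact hpi.not_isUnit (isUnit_of_dvd_unit (dvd_pow_self p (n := e) (by omega))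
        (isUnit_of_dvd_one ((mul_dvd_mul_iff_right hs0).1 hd')))
    · have h0 : aeval (top' g) (p ^ e) = 0 := LinearMap.ker_eq_top.1 h
      have hd := minpoly.dvd F (top' g) h0
      rw [hs] at hd
      exact hsu (isUnit_of_dvd_one ((mul_dvd_mul_iff_left (a := p ^ e) (c := 1)
        (pow_ne_zero _ hpi.ne_zero)).1 (by simpa using hd)))
    · refine hI.nondeg x fun y => ?_
      have hy : y = aeval (top' g) c (aeval (top' g) (p ^ e) y) +
          aeval (top' g) d (aeval (top' g) s y) := by
        rw [aeval_aeval, aeval_aeval, ← LinearMap.add_apply, ← map_add, hcd, map_one,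
          Module.End.one_apply]
      rw [hy, map_add, h (aeval (top' g) d (aeval (top' g) s y)), ← hI.aeval_adjoint,
        ← hI.aeval_adjoint, aeval_aeval, mul_comm, ← aeval_aeval, LinearMap.mem_ker.1 hx]
      · simp
      · rw [LinearMap.mem_ker, aeval_aeval, aeval_aeval,
          show p ^ e * d * s = d * minpoly F (top' g) by rw [hs]; ring, map_mul, minpoly.aeval]
        simp
  right
  have hk : aeval (top' g) (p ^ e) = 0 := by
    have h : aeval (top' g) (p ^ e * s) = 0 := by rw [← hs]; exact minpoly.aeval _ _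
    rw [map_mul] at h
    exact (hsu.map (aeval (top' g))).mul_left_eq_zero.1 h
  have hπ : aeval (top' g) (p ^ (e - 1)) ≠ 0 := fun h => by
    have hd := (minpoly.dvd F (top' g) h)
    rw [hs] at hd
    have h2 := (dvd_mul_right (p ^ e) s).trans hd
    have := Polynomial.natDegree_le_of_dvd h2 (pow_ne_zero _ hpi.ne_zero)
    rw [natDegree_pow, natDegree_pow] at this
    have hpos := hpi.natDegree_pos
    have := Nat.le_of_mul_le_mul_right this hpos
    omega
  by_cases hA : ∃ v, B (g (aeval (top' g) (p ^ (e - 1)) v)) v ≠ 0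
  · obtain ⟨v, hv⟩ := hA
    exact Or.inl (cyclic_piece hI hpi.prime hk hv)
  push Not at hA
  have hinv : ∀ w, g (aeval (top' g) (p ^ (e - 1)) w) = g.symm (aeval (top' g) (p ^ (e - 1)) w) := by
    intro w
    refine sub_eq_zero.1 (hI.nondeg _ fun v => ?_)
    have h := hA (w + v)
    simp only [map_add, LinearMap.add_apply, hA, zero_add, add_zero] at h
    rw [map_sub, LinearMap.sub_apply, hI.symm_left, hI.aeval_adjoint, aeval_g]
    rw [hI.swap (g (aeval (top' g) (p ^ (e - 1)) v)) w]
    linear_combination h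
  obtain ⟨ε, hε, rfl⟩ : ∃ ε : F, ε * ε = 1 ∧ p = X - C (2 * ε) := by
    have h4 : aeval (top' g) ((X - C (2 * 1)) * (X - C (2 * (-1))) * p ^ (e - 1)) = 0 := by
      refine LinearMap.ext fun w => ?_
      rw [← aeval_aeval]
      generalize hw : aeval (top' g) (p ^ (e - 1)) w = z
      have hz : g z = g.symm z := by rw [← hw]; exact hinv w
      have hz2 : g (g z) = z := by rw [hz, g.apply_symm_apply]
      have h1 : top' g z = g z + g z := by rw [top'_apply, ← hz]
      simp only [map_mul, map_sub, aeval_X, aeval_C, Module.End.mul_apply, LinearMap.sub_apply,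
        Module.algebraMap_end_apply, LinearMap.zero_apply, h1, map_smul, map_add, map_neg,
        LinearMap.neg_apply, top'_g, hz2]
      module
    have hd := minpoly.dvd F (top' g) h4
    rw [hs] at hd
    have h2 := (dvd_mul_right (p ^ e) s).trans hd
    nth_rw 1 [← Nat.sub_add_cancel he] at h2
    rw [pow_succ', mul_dvd_mul_iff_right (pow_ne_zero _ hpi.ne_zero)] at h2
    rcases hpi.prime.dvd_or_dvd h2 with h3 | h3
    · exact ⟨1, one_mul 1, eq_of_monic_of_associated hpm (monic_X_sub_C _)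
        (hpi.associated_of_dvd (irreducible_X_sub_C _) h3)⟩
    · exact ⟨-1, by ring, eq_of_monic_of_associated hpm (monic_X_sub_C _)
        (hpi.associated_of_dvd (irreducible_X_sub_C _) h3)⟩
  by_cases hB : ∃ x, nil g ε (aeval (top' g) ((X - C (2 * ε)) ^ (e - 1)) x) ≠ 0
  · obtain ⟨x, hx⟩ := hB
    exact Or.inl (double_piece hI hε he hk hA hx)
  push Not at hB
  refine Or.inr ⟨ε, 2 * (e - 1), hε, even_two_mul _, ?_, ?_, fun v => ?_⟩
  · refine LinearMap.ext fun v => ?_
    rw [pow_succ', Module.End.mul_apply, nil_pow_two_mul g hε, Module.End.mul_apply,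
      ← Module.End.mul_apply (nil g ε), ((nil_commute g ε).pow_right _).eq, Module.End.mul_apply,
      hB, map_zero, LinearMap.zero_apply]
  · intro h
    rw [nil_pow_two_mul g hε] at h
    exact hπ ((((Module.End.isUnit_iff _).2 g.bijective).pow _).mul_right_eq_zero.1 h)
  · rw [nil_pow_two_mul g hε, Module.End.mul_apply,
      pow_eigen g (sub_eq_zero.1 (by rw [← nil_apply]; exact hB v)), map_smul,
      LinearMap.smul_apply, hI.aeval_self, smul_zero]

end CfsgLib.KnownB.OreSp
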