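import Cfsg.Agent.Lib.KnownB.OreSp.Units

/-!
Identity matrices over the field with two elements.
-/

set_option autoImplicit false

namespace CfsgLib.KnownB.OreSp

open Matrix Polynomial

section polys

variable {R : Type*} [CommRing R]

/-- `X³ + X + 1`. -/
noncomputable def b3 : R[X] := X ^ 3 + X + 1
/-- `X⁴ + X + 1`. -/
noncomputable def b4 : R[X] := X ^ 4 + X + 1
/-- `X⁵ + X² + 1`. -/
noncomputable def b5 : R[X] := X ^ 5 + X ^ 2 + 1
/-- Reversal of `b3`. -/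
noncomputable def b3r : R[X] := X ^ 3 + X ^ 2 + 1
/-- Reversal of `b4`. -/
noncomputable def b4r : R[X] := X ^ 4 + X ^ 3 + 1
/-- Reversal of `b5`. -/
noncomputable def b5r : R[X] := X ^ 5 + X ^ 3 + 1

/-- The product used over two elements. -/
noncomputable def polyTwo : R[X] := b3 * b4 * b5

end polys

variable {F : Type*} [Field F]

theorem reflect_one_two (N : ℕ) : reflect N (1 : F[X]) = X ^ N := by
  rw [← C_1, reflect_C, C_1, one_mul]

theorem reflect_X_two (N : ℕ) : reflect N (X : F[X]) = X ^ revAt N 1 := by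
  conv_lhs => rw [← pow_one (X : F[X]), reflect_monomial]

theorem rev_b3 : Rev (b3 : F[X]) b3r := by
  refine ⟨3, by rw [b3]; compute_degree, ?_⟩
  simp only [b3, b3r, reflect_add, reflect_monomial, reflect_one_two, reflect_X_two,
    revAt_le (show 1 ≤ 3 by omega), revAt_le (show 3 ≤ 3 by omega)]
  ring

theorem rev_b4 : Rev (b4 : F[X]) b4r := by
  refine ⟨4, by rw [b4]; compute_degree, ?_⟩
  simp only [b4, b4r, reflect_add, reflect_monomial, reflect_one_two, reflect_X_two,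
    revAt_le (show 1 ≤ 4 by omega), revAt_le (show 4 ≤ 4 by omega)]
  ring

theorem rev_b5 : Rev (b5 : F[X]) b5r := by
  refine ⟨5, by rw [b5]; compute_degree, ?_⟩
  simp only [b5, b5r, reflect_add, reflect_monomial, reflect_one_two,
    revAt_le (show 2 ≤ 5 by omega), revAt_le (show 5 ≤ 5 by omega)]
  ring

theorem bez_b3_b3 (hq : (2 : F[X]) = 0) : IsCoprime (b3 : F[X]) b3r :=
  ⟨(1 * X), (1 + 1 * X), by
    simp only [b3, b3r]; linear_combination (1 * X + 1 * X ^ 2 + 1 * X ^ 3 + 1 * X ^ 4) * hq⟩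
theorem bez_b3_b4 (hq : (2 : F[X]) = 0) : IsCoprime (b3 : F[X]) b4r :=
  ⟨(1 * X + 1 * X ^ 3), (1 + 1 * X + 1 * X ^ 2), by
    simp only [b3, b4r]; linear_combination (1 * X + 1 * X ^ 2 + 1 * X ^ 3 + 2 * X ^ 4 + 1 * X ^ 5 + 1 * X ^ 6) * hq⟩
theorem bez_b3_b5 (hq : (2 : F[X]) = 0) : IsCoprime (b3 : F[X]) b5r :=
  ⟨(1 + 1 * X ^ 3), (1 * X), by
    simp only [b3, b5r]; linear_combination (1 * X + 1 * X ^ 3 + 1 * X ^ 4 + 1 * X ^ 6) * hq⟩
theorem bez_b4_b3 (hq : (2 : F[X]) = 0) : IsCoprime (b4 : F[X]) b3r :=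
  ⟨(1 + 1 * X), (1 * X ^ 2), by
    simp only [b4, b3r]; linear_combination (1 * X + 1 * X ^ 2 + 1 * X ^ 4 + 1 * X ^ 5) * hq⟩
theorem bez_b4_b4 (hq : (2 : F[X]) = 0) : IsCoprime (b4 : F[X]) b4r :=
  ⟨(1 + 1 * X + 1 * X ^ 3), (1 * X ^ 2 + 1 * X ^ 3), by
    simp only [b4, b4r]; linear_combination (1 * X + 1 * X ^ 2 + 1 * X ^ 3 + 1 * X ^ 4 + 1 * X ^ 5 + 1 * X ^ 6 + 1 * X ^ 7) * hq⟩
theorem bez_b4_b5 (hq : (2 : F[X]) = 0) : IsCoprime (b4 : F[X]) b5r :=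
  ⟨(1 + 1 * X + 1 * X ^ 2 + 1 * X ^ 4), (1 * X ^ 3), by
    simp only [b4, b5r]; linear_combination (1 * X + 1 * X ^ 2 + 1 * X ^ 3 + 1 * X ^ 4 + 1 * X ^ 5 + 1 * X ^ 6 + 1 * X ^ 8) * hq⟩
theorem bez_b5_b3 (hq : (2 : F[X]) = 0) : IsCoprime (b5 : F[X]) b3r :=
  ⟨(1 * X), (1 + 1 * X + 1 * X ^ 2 + 1 * X ^ 3), by
    simp only [b5, b3r]; linear_combination (1 * X + 1 * X ^ 2 + 2 * X ^ 3 + 1 * X ^ 4 + 1 * X ^ 5 + 1 * X ^ 6) * hq⟩
theorem bez_b5_b4 (hq : (2 : F[X]) = 0) : IsCoprime (b5 : F[X]) b4r :=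
  ⟨(1 + 1 * X + 1 * X ^ 2), (1 * X + 1 * X ^ 3), by
    simp only [b5, b4r]; linear_combination (1 * X + 1 * X ^ 2 + 1 * X ^ 3 + 1 * X ^ 4 + 1 * X ^ 5 + 1 * X ^ 6 + 1 * X ^ 7) * hq⟩
theorem bez_b5_b5 (hq : (2 : F[X]) = 0) : IsCoprime (b5 : F[X]) b5r :=
  ⟨(1 * X + 1 * X ^ 2), (1 + 1 * X + 1 * X ^ 2), by
    simp only [b5, b5r]; linear_combination (1 * X + 1 * X ^ 2 + 1 * X ^ 3 + 1 * X ^ 4 + 1 * X ^ 5 + 1 * X ^ 6 + 1 * X ^ 7) * hq⟩

theorem apart_polyTwo [CharP F 2] : Apart (polyTwo : F[X]) := by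
  have hq : (2 : F[X]) = 0 := by
    rw [← map_ofNat C 2, show (2 : F) = ((2 : ℕ) : F) by norm_num, CharP.cast_eq_zero, map_zero]
  exact ⟨_, (rev_b3.mul rev_b4).mul rev_b5,
    ((((bez_b3_b3 hq).mul_right (bez_b3_b4 hq)).mul_right (bez_b3_b5 hq)).mul_left
      (((bez_b4_b3 hq).mul_right (bez_b4_b4 hq)).mul_right (bez_b4_b5 hq))).mul_left
      (((bez_b5_b3 hq).mul_right (bez_b5_b4 hq)).mul_right (bez_b5_b5 hq))⟩

/-- A companion certificate over `ZMod 2`. -/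
theorem goodM_one_of_cert [CharP F 2] (n : ℕ) (q₀ : (ZMod 2)[X]) (q : F[X])
    (L Li : Matrix (Fin n) (Fin n) (ZMod 2)) (hL : L * Li = 1) (hz : aeval L q₀ = 0)
    (hq0 : q₀.map (ZMod.castHom (dvd_refl 2) F) = q) (hq : q ∣ polyTwo) :
    GoodM (polyTwo (R := F)) (1 : Matrix (Fin n) (Fin n) F) := by
  let f : ZMod 2 →+* F := ZMod.castHom (dvd_refl 2) F
  obtain ⟨c, hc⟩ := hq
  refine ⟨L.map f, 1, ?_, by simp, by simp, ?_⟩
  · rw [← RingHom.mapMatrix_apply, ← RingHom.map_det]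
    exact ((Matrix.isUnit_iff_isUnit_det L).1 (IsUnit.of_mul_eq_one Li hL)).map f
  · have key : ∀ p : (ZMod 2)[X], aeval (L.map f) (p.map f) = (aeval L p).map f := by
      intro p
      rw [aeval_def, eval₂_map, aeval_def, ← RingHom.mapMatrix_apply, ← RingHom.mapMatrix_apply,
        hom_eval₂]
      congr 1
      ext r i j
      by_cases hij : i = j
      · simp [hij, Matrix.algebraMap_matrix_apply]
      · simp [hij, Matrix.algebraMap_matrix_apply]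
    rw [hc, map_mul, ← hq0, key, hz, Matrix.map_zero _ (map_zero f), zero_mul]

set_option linter.unusedSimpArgs false

theorem goodM_one_three [CharP F 2] : GoodM (polyTwo (R := F)) (1 : Matrix (Fin 3) (Fin 3) F) := by
  refine goodM_one_of_cert 3 b3 b3 !![0, 0, 1; 1, 0, 1; 0, 1, 0]
    !![1, 1, 0; 0, 0, 1; 1, 0, 0] (by decide +kernel) ?_ (by simp [b3])
    ⟨b4 * b5, by rw [polyTwo]; ring⟩
  simp only [b3, map_add, map_mul, map_pow, map_one, aeval_X, pow_succ, pow_zero, one_mul]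
  decide +kernel

theorem goodM_one_four [CharP F 2] : GoodM (polyTwo (R := F)) (1 : Matrix (Fin 4) (Fin 4) F) := by
  refine goodM_one_of_cert 4 b4 b4 !![0, 0, 0, 1; 1, 0, 0, 1; 0, 1, 0, 0; 0, 0, 1, 0]
    !![1, 1, 0, 0; 0, 0, 1, 0; 0, 0, 0, 1; 1, 0, 0, 0] (by decide +kernel) ?_ (by simp [b4])
    ⟨b3 * b5, by rw [polyTwo]; ring⟩
  simp only [b4, map_add, map_mul, map_pow, map_one, aeval_X, pow_succ, pow_zero, one_mul]
  decide +kernel

theorem goodM_one_five [CharP F 2] : GoodM (polyTwo (R := F)) (1 : Matrix (Fin 5) (Fin 5) F) := by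
  refine goodM_one_of_cert 5 b5 b5 !![0, 0, 0, 0, 1; 1, 0, 0, 0, 0; 0, 1, 0, 0, 1; 0, 0, 1, 0, 0; 0, 0, 0, 1, 0]
    !![0, 1, 0, 0, 0; 1, 0, 1, 0, 0; 0, 0, 0, 1, 0; 0, 0, 0, 0, 1; 1, 0, 0, 0, 0] (by decide +kernel) ?_ (by simp [b5])
    ⟨b3 * b4, by rw [polyTwo]; ring⟩
  simp only [b5, map_add, map_mul, map_pow, map_one, aeval_X, pow_succ, pow_zero, one_mul]
  decide +kernel

/-- All identity matrices of size at least three. -/
theorem goodM_one_two [CharP F 2] : ∀ n, 3 ≤ n →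
    GoodM (polyTwo (R := F)) (1 : Matrix (Fin n) (Fin n) F) := by
  intro n
  induction n using Nat.strong_induction_on with
  | _ n ih =>
    intro hn
    match n, hn with
    | 3, _ => exact goodM_one_three
    | 4, _ => exact goodM_one_four
    | 5, _ => exact goodM_one_five
    | n + 6, _ =>
      have h := (GoodM.fromBlocks (ih (n + 3) (by omega) (by omega)) goodM_one_three).reindex
        (finSumFinEquiv (m := n + 3) (n := 3)).symm
      rwa [fromBlocks_one, submatrix_one_equiv] at h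

end CfsgLib.KnownB.OreSp
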