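import Cfsg.Agent.Lib.KnownB.OreSp.Line

/-!
Every isometry has a frame.
-/

set_option autoImplicit false

namespace CfsgLib.KnownB.OreSp

open Module Polynomial

universe v

variable {F : Type*} [Field F]

theorem exists_frame : ∀ (n : ℕ) (V : Type v) [AddCommGroup V] [Module F V] [FiniteDimensional F V],
    finrank F V = n → ∀ (B : V →ₗ[F] V →ₗ[F] F) (g : V ≃ₗ[F] V), Isom B g →
      HasFrame (fun _ => True) B g := by
  intro n
  induction n using Nat.strong_induction_on with
  | _ n ih =>
    intro V _ _ _ hn B g hI
    rcases Nat.eq_zero_or_pos n with rfl | hpos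
    · exact hasFrame_of_subsingleton hn
    have : Nontrivial V := Module.nontrivial_of_finrank_pos (R := F) (by omega)
    have split : ∀ U : Submodule F V, U ≠ ⊥ → ∀ (hU : ∀ x ∈ U, g x ∈ U), Nondeg B U →
        HasFrame (fun _ => True) (resB B U) (resG g U hU) → HasFrame (fun _ => True) B g := by
      intro U hU0 hU hnd h1
      refine hasFrame_sum hI hnd hU h1 (ih _ ?_ _ rfl _ _
        (hI.res (hI.nondeg_perp hnd) (hI.perp_invariant hU)))
      have := Submodule.finrank_add_eq_of_isCompl (hI.isCompl hnd)
      have : 0 < finrank F U := Nat.pos_of_ne_zero fun e => hU0 (Submodule.finrank_eq_zero.1 e)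
      omega
    rcases three_cases hI with ⟨U, h0, h1, hnd, hU⟩ | ⟨W, hW0, hW⟩ |
      ⟨ε, m, hε, hm, hN, hN', hself⟩
    · refine split U h0 hU hnd (ih _ ?_ _ rfl _ _ (hI.res hnd hU))
      rw [← hn]
      exact Submodule.finrank_lt (lt_top_iff_ne_top.2 h1).ne
    · exact split (Piece.space g W)
        (fun e => hW0 (le_bot_iff.1 (e ▸ (le_sup_left : W ≤ Piece.space g W))))
        hW.invariant (hW.nondeg_space hI) (hW.hasFrame (Q := fun _ => True) trivial hI)
    · rcases Nat.eq_zero_or_pos m with rfl | hmpos
      · -- `g` is the scalar `ε`
        have hg : ∀ z, g z = ε • z := fun z => by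
          refine sub_eq_zero.1 ?_
          rw [← nil_apply, ← pow_one (nil g ε), hN]; rfl
        obtain ⟨e, he⟩ := exists_ne (0 : V)
        obtain ⟨f, hf⟩ : ∃ f, B f e = 1 := by
          by_contra hcon
          push Not at hcon
          refine he (hI.nondeg_right e fun y => ?_)
          by_contra hne
          exact hcon ((B y e)⁻¹ • y) (by simp [inv_mul_cancel₀ hne])
        set U := Submodule.span F {e, f} with hUdef
        have he' : e ∈ U := Submodule.subset_span (by simp)
        have hf' : f ∈ U := Submodule.subset_span (by simp)
        have hU : ∀ x ∈ U, g x ∈ U := fun x hx => by rw [hg]; exact U.smul_mem _ hx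
        have hef : B e f = -1 := by rw [hI.swap, hf]
        have hnd : Nondeg B U := by
          intro x hx h
          obtain ⟨a, b, rfl⟩ := Submodule.mem_span_pair.1 hx
          have h1 := h e he'
          have h2 := h f hf'
          simp [hI.alt, hf, hef] at h1 h2
          simp [h1, h2]
        have hdim : finrank F U = 2 := by
          have hind : LinearIndependent F ![e, f] := by
            rw [LinearIndependent.pair_iff]
            intro a b hab
            have h1 := congrArg (fun z => B z e) hab
            have h2 := congrArg (fun z => B z f) hab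
            simp [hI.alt, hf, hef] at h1 h2
            exact ⟨h2, h1⟩
          have := finrank_span_eq_card hind
          rwa [show Set.range ![e, f] = {e, f} by
            simp [Matrix.range_cons, Matrix.range_empty, Set.pair_comm], Fintype.card_fin] at this
        refine split U (fun h => he ?_) hU hnd (Frame.hasFrame (ι := Fin 1)
          (e := fun _ => ⟨e, he'⟩) (f := fun _ => ⟨f, hf'⟩) (s := fun _ => false)
          (p := fun _ => true) (ε := fun _ => ε)
          { dim := by rw [Fintype.card_fin, hdim]
            ee := fun _ _ => hI.alt e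
            ff := fun _ _ => hI.alt f
            fe := fun i j => by
              rw [Subsingleton.elim i j, if_pos rfl]; exact hf
            sgn := fun _ => sgn_of_sq hε
            eig := fun _ _ => Subtype.ext (hg e)
            plane := fun _ _ => ⟨rfl, Subtype.ext (hg f)⟩
            col := fun _ _ h => Bool.noConfusion h
            sym := fun _ _ h => Bool.noConfusion h
            inj := fun c hc _ => funext fun i => hc i rfl
            count := fun ⟨_, _, h⟩ => Bool.noConfusion h } fun _ => trivial)
        rw [h] at he'
        simpa using he'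
      · -- an exceptional pair
        obtain ⟨x, hx⟩ : ∃ x, (nil g ε ^ m) x ≠ 0 := by
          by_contra hcon
          push Not at hcon
          exact hN' (LinearMap.ext fun z => by simp [hcon z])
        obtain ⟨y, hxy⟩ : ∃ y, B ((nil g ε ^ m) x) y ≠ 0 := by
          by_contra hcon
          push Not at hcon
          exact hx (hI.nondeg _ hcon)
        set N := nil g ε with hNdef
        let ψ : F[X] × F[X] →ₗ[F] V :=
          ((LinearMap.applyₗ x) ∘ₗ (aeval N : F[X] →ₐ[F] End F V).toLinearMap).coprod
            ((LinearMap.applyₗ y) ∘ₗ (aeval N : F[X] →ₐ[F] End F V).toLinearMap)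
        have hψ : ∀ a b, ψ (a, b) = aeval N a x + aeval N b y := fun a b => rfl
        set U := LinearMap.range ψ with hUdef
        have hxU : ∀ j, (N ^ j) x ∈ U := fun j => ⟨(X ^ j, 0), by simp [hψ]⟩
        have hyU : ∀ j, (N ^ j) y ∈ U := fun j => ⟨(0, X ^ j), by simp [hψ]⟩
        have hU : ∀ z ∈ U, g z ∈ U := by
          rintro _ ⟨⟨a, b⟩, rfl⟩
          refine ⟨((X + Polynomial.C ε) * a, (X + Polynomial.C ε) * b), ?_⟩
          simp only [hψ, map_add, map_mul, aeval_X, aeval_C, Module.End.mul_apply,
            LinearMap.add_apply, Module.algebraMap_end_apply]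
          simp only [hNdef, nil_apply]
          module
        have hnd : Nondeg B U := by
          rintro _ ⟨⟨a, b⟩, rfl⟩ h
          rw [hψ] at h ⊢
          obtain ⟨⟨a', rfl⟩, b', rfl⟩ :=
            pair_dvd hI hε hN hself hxy fun j => ⟨h _ (hxU j), h _ (hyU j)⟩
          rw [map_mul, map_mul, map_pow, aeval_X, hN]
          simp
        have hx' : x ∈ U := by simpa using hxU 0
        have hy' : y ∈ U := by simpa using hyU 0
        refine split U (fun h => hx ?_) hU hnd
          (hasFrame_pair (hI.res hnd hU) hε hm (by omega) (m := m) (x := ⟨x, hx'⟩) (y := ⟨y, hy'⟩)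
            ?_ ?_ ?_ ?_)
        · rw [h, Submodule.mem_bot] at hx'
          rw [hx', map_zero]
        · exact LinearMap.ext fun z => Subtype.ext (by rw [nil_res_pow, hN]; simp)
        · intro z
          rw [resB_apply, nil_res_pow]; exact hself z.1
        · rw [resB_apply, nil_res_pow]; exact hxy
        · rintro ⟨z, ⟨a, b⟩, rfl⟩
          exact ⟨a, b, Subtype.ext (by rw [Submodule.coe_add, nil_res_aeval, nil_res_aeval]; rfl)⟩

end CfsgLib.KnownB.OreSp
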