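import Cfsg.Agent.Lib.KnownB.OreSp.Alt

/-!
Frames of isometries: symplectic bases adapted to an isometry.
-/

set_option autoImplicit false

namespace CfsgLib.KnownB.OreSp

open Module

variable {F V : Type*} [Field F] [AddCommGroup V] [Module F V]

/-- A symplectic basis adapted to `g`: generic indices carry a non-degenerate symmetric corner, the
other ones eigenvectors. -/
structure Frame (B : V →ₗ[F] V →ₗ[F] F) (g : V ≃ₗ[F] V) {ι : Type} [Fintype ι] [DecidableEq ι]
    (e f : ι → V) (s p : ι → Bool) (ε : ι → F) : Prop where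
  dim : 2 * Fintype.card ι = finrank F V
  ee : ∀ i j, B (e i) (e j) = 0
  ff : ∀ i j, B (f i) (f j) = 0
  fe : ∀ i j, B (f i) (e j) = if i = j then 1 else 0
  sgn : ∀ i, ε i = 1 ∨ ε i = -1
  eig : ∀ i, s i = false → g (e i) = ε i • e i
  plane : ∀ i, p i = true → s i = false ∧ g (f i) = ε i • f i
  col : ∀ i j, s j = true → B (f i) (g (e j)) = 0
  sym : ∀ i j, s i = true → s j = true → B (g (e i)) (e j) = B (g (e j)) (e i)
  inj : ∀ c : ι → F, (∀ i, s i = false → c i = 0) →
    (∀ i, s i = true → ∑ j, c j * B (g (e j)) (e i) = 0) → c = 0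
  count : (∃ i, s i = false ∧ p i = false) → 2 ≤ (Finset.univ.filter fun i => s i = true).card

/-- A frame whose generic indices satisfy `Q`. -/
def HasFrame (Q : Bool → Prop) (B : V →ₗ[F] V →ₗ[F] F) (g : V ≃ₗ[F] V) : Prop :=
  ∃ (n : ℕ) (e f : Fin n → V) (s p : Fin n → Bool) (ε : Fin n → F),
    Frame B g e f s p ε ∧ ∀ i, Q (s i)

variable {B : V →ₗ[F] V →ₗ[F] F} {g : V ≃ₗ[F] V}

theorem Frame.hasFrame {Q : Bool → Prop} {ι : Type} [Fintype ι] [DecidableEq ι] {e f : ι → V}
    {s p : ι → Bool} {ε : ι → F} (h : Frame B g e f s p ε) (hQ : ∀ i, Q (s i)) :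
    HasFrame Q B g := by
  let σ := (Fintype.equivFin ι).symm
  refine ⟨Fintype.card ι, e ∘ σ, f ∘ σ, s ∘ σ, p ∘ σ, ε ∘ σ,
    { dim := by rw [Fintype.card_fin, h.dim]
      ee := fun i j => h.ee _ _
      ff := fun i j => h.ff _ _
      fe := fun i j => by simp [h.fe]
      sgn := fun i => h.sgn _
      eig := fun i => h.eig _
      plane := fun i => h.plane _
      col := fun i j => h.col _ _
      sym := fun i j => h.sym _ _
      inj := fun c hc hs => ?_
      count := fun ⟨i, hi⟩ => ?_ }, fun i => hQ _⟩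
  · have := h.inj (c ∘ σ.symm) (fun i hi => hc _ (by simpa using hi)) (fun i hi => ?_)
    · funext i; simpa using congrFun this (σ i)
    · have h' := hs (σ.symm i) (by simpa using hi)
      rw [← Equiv.sum_comp σ]
      simpa using h'
  · refine (h.count ⟨σ i, hi⟩).trans (le_of_eq ?_)
    refine Finset.card_equiv σ.symm fun a => ?_
    simp

/-- The restricted form. -/
def resB (B : V →ₗ[F] V →ₗ[F] F) (U : Submodule F V) : U →ₗ[F] U →ₗ[F] F :=
  B.compl₁₂ U.subtype U.subtype

@[simp] theorem resB_apply (U : Submodule F V) (x y : U) : resB B U x y = B x.1 y.1 := rfl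

variable [FiniteDimensional F V]

/-- The restricted isometry. -/
def resG (g : V ≃ₗ[F] V) (U : Submodule F V) (hU : ∀ x ∈ U, g x ∈ U) : U ≃ₗ[F] U :=
  g.ofSubmodules U U (map_eq_of_le hU)

@[simp] theorem resG_apply (U : Submodule F V) (hU : ∀ x ∈ U, g x ∈ U) (x : U) :
    (resG g U hU x).1 = g x.1 := rfl

theorem Isom.res (hI : Isom B g) {U : Submodule F V} (hn : Nondeg B U) (hU : ∀ x ∈ U, g x ∈ U) :
    Isom (resB B U) (resG g U hU) where
  alt x := hI.alt x.1
  nondeg x h := Subtype.ext (hn x.1 x.2 fun u hu => h ⟨u, hu⟩)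
  pres x y := hI.pres x.1 y.1

/-- Frames of orthogonal pieces combine. -/
theorem hasFrame_sum {Q : Bool → Prop} (hI : Isom B g) {U : Submodule F V} (hn : Nondeg B U)
    (hU : ∀ x ∈ U, g x ∈ U) (h1 : HasFrame Q (resB B U) (resG g U hU))
    (h2 : HasFrame Q (resB B (perp B U)) (resG g (perp B U) (hI.perp_invariant hU))) :
    HasFrame Q B g := by
  obtain ⟨n, e, f, s, p, ε, h, hQ⟩ := h1
  obtain ⟨n', e', f', s', p', ε', h', hQ'⟩ := h2
  have o1 : ∀ (x : U) (y : perp B U), B x.1 y.1 = 0 := fun x y => by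
    rw [hI.swap, mem_perp.1 y.2 _ x.2, neg_zero]
  have o2 : ∀ (x : perp B U) (y : U), B x.1 y.1 = 0 := fun x y => mem_perp.1 x.2 _ y.2
  have o3 : ∀ (x : U) (y : perp B U), B x.1 (g y.1) = 0 := fun x y =>
    o1 x ⟨g y.1, hI.perp_invariant hU _ y.2⟩
  have o4 : ∀ (x : perp B U) (y : U), B x.1 (g y.1) = 0 := fun x y => o2 x ⟨g y.1, hU _ y.2⟩
  have o5 : ∀ (x : U) (y : perp B U), B (g x.1) y.1 = 0 := fun x y => o1 ⟨g x.1, hU _ x.2⟩ y
  have o6 : ∀ (x : perp B U) (y : U), B (g x.1) y.1 = 0 := fun x y =>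
    o2 ⟨g x.1, hI.perp_invariant hU _ x.2⟩ y
  refine (Frame.hasFrame (ι := Fin n ⊕ Fin n') (e := Sum.elim (fun i => (e i).1) fun i => (e' i).1)
    (f := Sum.elim (fun i => (f i).1) fun i => (f' i).1) (s := Sum.elim s s') (p := Sum.elim p p')
    (ε := Sum.elim ε ε')
    { dim := ?_, ee := ?_, ff := ?_, fe := ?_, sgn := ?_, eig := ?_, plane := ?_, col := ?_,
      sym := ?_, inj := ?_, count := ?_ } ?_)
  · rw [Fintype.card_sum, mul_add, h.dim, h'.dim,
      Submodule.finrank_add_eq_of_isCompl (hI.isCompl hn)]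
  · rintro (i | i) (j | j)
    exacts [h.ee i j, o1 _ _, o2 _ _, h'.ee i j]
  · rintro (i | i) (j | j)
    exacts [h.ff i j, o1 _ _, o2 _ _, h'.ff i j]
  · rintro (i | i) (j | j)
    · simpa using h.fe i j
    · simpa using o1 (f i) (e' j)
    · simpa using o2 (f' i) (e j)
    · simpa using h'.fe i j
  · rintro (i | i)
    exacts [h.sgn i, h'.sgn i]
  · rintro (i | i) hi
    exacts [congrArg Subtype.val (h.eig i hi), congrArg Subtype.val (h'.eig i hi)]
  · rintro (i | i) hi
    exacts [⟨(h.plane i hi).1, congrArg Subtype.val (h.plane i hi).2⟩,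
      ⟨(h'.plane i hi).1, congrArg Subtype.val (h'.plane i hi).2⟩]
  · rintro (i | i) (j | j) hj
    exacts [h.col i j hj, o3 _ _, o4 _ _, h'.col i j hj]
  · rintro (i | i) (j | j) hi hj
    · exact h.sym i j hi hj
    · exact (o5 (e i) (e' j)).trans (o6 (e' j) (e i)).symm
    · exact (o6 (e' i) (e j)).trans (o5 (e j) (e' i)).symm
    · exact h'.sym i j hi hj
  · intro c hc hs
    have c1 : (fun i => c (.inl i)) = 0 := h.inj _ (fun i hi => hc (.inl i) hi) fun i hi => by
      have := hs (.inl i) hi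
      simp only [Fintype.sum_sum_type, Sum.elim_inl, Sum.elim_inr, o6, mul_zero,
        Finset.sum_const_zero, add_zero] at this
      exact this
    have c2 : (fun i => c (.inr i)) = 0 := h'.inj _ (fun i hi => hc (.inr i) hi) fun i hi => by
      have := hs (.inr i) hi
      simp only [Fintype.sum_sum_type, Sum.elim_inl, Sum.elim_inr, o5, mul_zero,
        Finset.sum_const_zero, zero_add] at this
      exact this
    funext i
    rcases i with i | i
    exacts [congrFun c1 i, congrFun c2 i]
  · rintro ⟨i | i, hi⟩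
    · exact (h.count ⟨i, hi⟩).trans (Finset.card_le_card_of_injOn Sum.inl
        (fun a ha => by simpa using ha) Sum.inl_injective.injOn)
    · exact (h'.count ⟨i, hi⟩).trans (Finset.card_le_card_of_injOn Sum.inr
        (fun a ha => by simpa using ha) Sum.inr_injective.injOn)
  · rintro (i | i)
    exacts [hQ i, hQ' i]

omit [FiniteDimensional F V] in
/-- The empty frame. -/
theorem hasFrame_of_subsingleton {Q : Bool → Prop} (h : finrank F V = 0) : HasFrame Q B g :=
  ⟨0, Fin.elim0, Fin.elim0, Fin.elim0, Fin.elim0, Fin.elim0,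
    { dim := by rw [Fintype.card_fin, h]
      ee := fun i => i.elim0
      ff := fun i => i.elim0
      fe := fun i => i.elim0
      sgn := fun i => i.elim0
      eig := fun i => i.elim0
      plane := fun i => i.elim0
      col := fun i => i.elim0
      sym := fun i => i.elim0
      inj := fun c _ _ => funext fun i => i.elim0
      count := fun ⟨i, _⟩ => i.elim0 }, fun i => i.elim0⟩

omit [FiniteDimensional F V] in
/-- The partner vectors of a basis of an isotropic space with non-degenerate corner. -/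
theorem exists_partner (hI : Isom B g) {ι : Type} [Fintype ι] [DecidableEq ι] (e : ι → V)
    (ee : ∀ i j, B (e i) (e j) = 0)
    (inj : ∀ c : ι → F, (∀ i, ∑ j, c j * B (g (e j)) (e i) = 0) → c = 0) :
    ∃ f : ι → V, (∀ i j, B (f i) (f j) = 0) ∧ (∀ i j, B (f i) (e j) = if i = j then 1 else 0) ∧
      (∀ i j, B (f i) (g (e j)) = 0) ∧ (∀ j, g (e j) = ∑ i, B (g (e j)) (e i) • f i) ∧
      ∀ i, f i ∈ Submodule.span F (Set.range fun k => g (e k)) := by
  let N : Matrix ι ι F := Matrix.of fun i k => B (g (e k)) (e i)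
  have hN : IsUnit N.det := by
    refine (Matrix.isUnit_iff_isUnit_det N).1 (Matrix.mulVec_injective_iff_isUnit.1 ?_)
    intro a b hab
    refine sub_eq_zero.1 (inj _ fun i => ?_)
    have := congrFun hab i
    simp only [Matrix.mulVec, dotProduct, N, Matrix.of_apply] at this
    simp only [Pi.sub_apply, sub_mul, Finset.sum_sub_distrib]
    simp only [mul_comm (B (g (e _)) (e i))] at this
    rw [this, sub_self]
  refine ⟨fun j => ∑ k, N⁻¹ k j • g (e k), fun i j => ?_, fun j i => ?_, fun i j => ?_, fun k => ?_,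
    fun i => Submodule.sum_mem _ fun k _ => Submodule.smul_mem _ _ (Submodule.subset_span ⟨k, rfl⟩)⟩
  · simp [hI.pres, ee]
  · have h1 : (N * N⁻¹) i j = (1 : Matrix ι ι F) i j := by rw [Matrix.mul_nonsing_inv _ hN]
    rw [Matrix.mul_apply, Matrix.one_apply] at h1
    simp only [map_sum, map_smul, LinearMap.sum_apply, LinearMap.smul_apply, smul_eq_mul]
    simp only [N, Matrix.of_apply] at h1
    simp only [eq_comm (a := j), ← h1, mul_comm]
    rfl
  · simp [hI.pres, ee]
  · have h1 : ∀ m, (N⁻¹ * N) m k = (1 : Matrix ι ι F) m k := fun m => by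
      rw [Matrix.nonsing_inv_mul _ hN]
    simp only [Finset.smul_sum, smul_smul]
    rw [Finset.sum_comm]
    simp only [← Finset.sum_smul]
    have h2 : ∀ m, ∑ x, B (g (e k)) (e x) * N⁻¹ m x = (1 : Matrix ι ι F) m k := fun m => by
      rw [← h1, Matrix.mul_apply]
      exact Finset.sum_congr rfl fun x _ => mul_comm _ _
    simp only [h2, Matrix.one_apply, ite_smul, one_smul, zero_smul, Finset.sum_ite_eq',
      Finset.mem_univ, if_true]

omit [FiniteDimensional F V] in
/-- A basis with non-degenerate corner gives a generic frame. -/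
theorem hasFrame_of_good {Q : Bool → Prop} (hQ : Q true) (hI : Isom B g) {ι : Type} [Fintype ι]
    [DecidableEq ι] (e : ι → V) (dim : 2 * Fintype.card ι = finrank F V)
    (ee : ∀ i j, B (e i) (e j) = 0) (sym : ∀ i j, B (g (e i)) (e j) = B (g (e j)) (e i))
    (inj : ∀ c : ι → F, (∀ i, ∑ j, c j * B (g (e j)) (e i) = 0) → c = 0) : HasFrame Q B g := by
  obtain ⟨f, ff, fe, col, -, -⟩ := exists_partner hI e ee inj
  exact Frame.hasFrame (s := fun _ => true) (p := fun _ => false) (ε := fun _ => 1)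
    { dim := dim, ee := ee, ff := ff, fe := fe
      sgn := fun _ => Or.inl rfl
      eig := fun _ h => Bool.noConfusion h
      plane := fun _ h => Bool.noConfusion h
      col := fun i j _ => col i j
      sym := fun i j _ _ => sym i j
      inj := fun c _ hs => inj c fun i => hs i rfl
      count := fun ⟨_, h, _⟩ => Bool.noConfusion h } fun _ => hQ

/-- A piece: an isotropic space invariant under `g + g⁻¹` with non-degenerate twisted form. -/
structure Piece (B : V →ₗ[F] V →ₗ[F] F) (g : V ≃ₗ[F] V) (W : Submodule F V) : Prop where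
  iso : ∀ x ∈ W, ∀ y ∈ W, B x y = 0
  inv : ∀ x ∈ W, top' g x ∈ W
  nondeg : ∀ x ∈ W, (∀ y ∈ W, B (g x) y = 0) → x = 0

/-- The invariant space spanned by a piece. -/
def Piece.space (g : V ≃ₗ[F] V) (W : Submodule F V) : Submodule F V := W ⊔ W.map (g : V →ₗ[F] V)

omit [FiniteDimensional F V] in
theorem Piece.mem_space {W : Submodule F V} {v : V} :
    v ∈ Piece.space g W ↔ ∃ a ∈ W, ∃ b ∈ W, v = a + g b := by
  rw [Piece.space, Submodule.mem_sup]
  constructor
  · rintro ⟨a, ha, _, ⟨b, hb, rfl⟩, rfl⟩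
    exact ⟨a, ha, b, hb, rfl⟩
  · rintro ⟨a, ha, b, hb, rfl⟩
    exact ⟨a, ha, _, ⟨b, hb, rfl⟩, rfl⟩

variable {W : Submodule F V}

omit [FiniteDimensional F V] in
theorem Piece.invariant (hW : Piece B g W) :
    ∀ x ∈ Piece.space g W, g x ∈ Piece.space g W := by
  intro x hx
  obtain ⟨a, ha, b, hb, rfl⟩ := Piece.mem_space.1 hx
  refine Piece.mem_space.2 ⟨-b, W.neg_mem hb, a + top' g b, W.add_mem ha (hW.inv b hb), ?_⟩
  rw [map_add, map_add, g_g g b]
  abel

omit [FiniteDimensional F V] in
theorem Piece.nondeg_space (hW : Piece B g W) (hI : Isom B g) : Nondeg B (Piece.space g W) := by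
  intro x hx h
  obtain ⟨a, ha, b, hb, rfl⟩ := Piece.mem_space.1 hx
  have hb0 : b = 0 := hW.nondeg b hb fun y hy => by
    have := h y (Piece.mem_space.2 ⟨y, hy, 0, W.zero_mem, by simp⟩)
    rwa [map_add, LinearMap.add_apply, hW.iso a ha y hy, zero_add] at this
  subst hb0
  rw [map_zero, add_zero] at h ⊢
  exact hW.nondeg a ha fun y hy => by
    have := h (g.symm y) (by
      refine Piece.mem_space.2 ⟨top' g y, hW.inv y hy, -y, W.neg_mem hy, ?_⟩
      rw [map_neg, top'_apply]; abel)
    rwa [hI.symm_right] at this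

/-- The frame of a piece. -/
theorem Piece.hasFrame {Q : Bool → Prop} (hQ : Q true) (hW : Piece B g W) (hI : Isom B g) :
    HasFrame Q (resB B (Piece.space g W)) (resG g (Piece.space g W) hW.invariant) := by
  let b := finBasis F W
  let e : Fin (finrank F W) → Piece.space g W := fun i =>
    ⟨(b i).1, Submodule.mem_sup_left (b i).2⟩
  refine hasFrame_of_good hQ (hI.res (hW.nondeg_space hI) hW.invariant) e ?_
    (fun i j => hW.iso _ (b i).2 _ (b j).2) (fun i j => ?_) fun c hc => ?_
  · have hd : Disjoint W (W.map (g : V →ₗ[F] V)) := Submodule.disjoint_def.2 fun x hx hx' => by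
      obtain ⟨y, hy, rfl⟩ := hx'
      refine LinearEquiv.map_eq_zero_iff g |>.2 ?_
      exact hW.nondeg y hy fun z hz => hW.iso _ hx z hz
    have := Submodule.finrank_sup_add_finrank_inf_eq W (W.map (g : V →ₗ[F] V))
    rw [disjoint_iff.1 hd, finrank_bot, add_zero, g.finrank_map_eq W] at this
    rw [Fintype.card_fin]
    exact (two_mul _).trans this.symm
  · change B (g (b i).1) (b j).1 = B (g (b j).1) (b i).1
    have h1 : B (b i).1 (top' g (b j).1) = 0 := hW.iso _ (b i).2 _ (hW.inv _ (b j).2)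
    rw [top'_apply, map_add, hI.symm_right, hI.swap (g (b j).1) (b i).1] at h1
    linear_combination h1
  · have h0 : ((∑ j, c j • b j : W) : V) = 0 := by
      refine hW.nondeg _ (Subtype.prop _) fun y hy => ?_
      have : (B (g ((∑ j, c j • b j : W) : V))) ∘ₗ W.subtype = 0 := by
        refine b.ext fun i => ?_
        simpa [e, mul_comm] using hc i
      exact LinearMap.congr_fun this ⟨y, hy⟩
    funext i
    exact Fintype.linearIndependent_iff.1 b.linearIndependent c (Subtype.ext h0) i

end CfsgLib.KnownB.OreSp
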