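import Cfsg.Agent.Lib.KnownB.OreSp.Cases

/-!
Spaces all of whose Jordan blocks have one even size, and the exceptional pair.
-/

set_option autoImplicit false

namespace CfsgLib.KnownB.OreSp

open Module Polynomial

variable {F V : Type*} [Field F] [AddCommGroup V] [Module F V]
variable {B : V →ₗ[F] V →ₗ[F] F} {g : V ≃ₗ[F] V} [FiniteDimensional F V]

theorem nil_res_pow (ε : F) {U : Submodule F V} (hU : ∀ x ∈ U, g x ∈ U) (k : ℕ) (x : U) :
    ((nil (resG g U hU) ε ^ k) x).1 = (nil g ε ^ k) x.1 := by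
  induction k with
  | zero => simp
  | succ k ih =>
    rw [pow_succ', pow_succ', Module.End.mul_apply, Module.End.mul_apply, nil_apply,
      Submodule.coe_sub, Submodule.coe_smul, resG_apply, ih, nil_apply]

theorem nil_res_aeval (ε : F) {U : Submodule F V} (hU : ∀ x ∈ U, g x ∈ U) (a : F[X]) (x : U) :
    (aeval (nil (resG g U hU) ε) a x).1 = aeval (nil g ε) a x.1 := by
  induction a using Polynomial.induction_on' with
  | add p q hp hq => simp [hp, hq]
  | monomial n r => simp [Module.End.mul_apply, nil_res_pow]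

/-- All Jordan blocks of `g - ε` have size `m`. -/
def Homog (g : V ≃ₗ[F] V) (ε : F) (m : ℕ) : Prop :=
  nil g ε ^ m = 0 ∧ ∀ v, nil g ε v = 0 → ∃ z, (nil g ε ^ (m - 1)) z = v

theorem Homog.res {ε : F} {m : ℕ} (h : Homog g ε m) {U U' : Submodule F V} (hc : IsCompl U U')
    (hU : ∀ x ∈ U, g x ∈ U) (hU' : ∀ x ∈ U', g x ∈ U') : Homog (resG g U hU) ε m := by
  refine ⟨LinearMap.ext fun x => Subtype.ext (by rw [nil_res_pow, h.1]; simp), fun v hv => ?_⟩
  have hv' : nil g ε v.1 = 0 := by
    have := nil_res_pow ε hU 1 v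
    rw [pow_one, pow_one, hv] at this
    exact this.symm
  obtain ⟨z, hz⟩ := h.2 v.1 hv'
  obtain ⟨a, ha, b, hb, rfl⟩ := Submodule.mem_sup.1 (hc.sup_eq_top ▸ Submodule.mem_top : z ∈ U ⊔ U')
  refine ⟨⟨a, ha⟩, Subtype.ext ?_⟩
  rw [nil_res_pow, ← hz, map_add]
  suffices (nil g ε ^ (m - 1)) b = 0 by rw [this, add_zero]
  have hm : ∀ (W : Submodule F V) (hW : ∀ x ∈ W, g x ∈ W) (w : W),
      (nil g ε ^ (m - 1)) w.1 ∈ W := fun W hW w => by
    rw [← nil_res_pow ε hW]; exact Subtype.prop _
  refine Submodule.disjoint_def.1 hc.disjoint _ ?_ (hm U' hU' ⟨b, hb⟩)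
  rw [map_add] at hz
  rw [eq_sub_of_add_eq' hz]
  exact sub_mem v.2 (hm U hU ⟨a, ha⟩)

omit [FiniteDimensional F V] in
theorem exists_kernel [Nontrivial V] (A : End F V) {k : ℕ} (h : A ^ k = 0) :
    ∃ v, v ≠ 0 ∧ A v = 0 := by
  by_contra hcon
  push Not at hcon
  obtain ⟨v, hv⟩ := exists_ne (0 : V)
  have : ∀ j, (A ^ j) v ≠ 0 := by
    intro j
    induction j with
    | zero => simpa using hv
    | succ j ih => rw [pow_succ', Module.End.mul_apply]; exact hcon _ ih
  exact this k (by rw [h]; rfl)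

universe v

/-- Homogeneous spaces of even block size have generic frames. -/
theorem hasFrame_homog : ∀ (n : ℕ) (V : Type v) [AddCommGroup V] [Module F V]
    [FiniteDimensional F V], finrank F V = n → ∀ (B : V →ₗ[F] V →ₗ[F] F) (g : V ≃ₗ[F] V) (ε : F)
      (m : ℕ), Isom B g → ε * ε = 1 → Even m → Homog g ε m → HasFrame (· = true) B g := by
  intro n
  induction n using Nat.strong_induction_on with
  | _ n ih =>
    intro V _ _ _ hn B g ε m hI hε hm hh
    rcases Nat.eq_zero_or_pos n with rfl | hpos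
    · exact hasFrame_of_subsingleton hn
    have : Nontrivial V := Module.nontrivial_of_finrank_pos (R := F) (by omega)
    have split : ∀ U : Submodule F V, U ≠ ⊥ → ∀ (hU : ∀ x ∈ U, g x ∈ U), Nondeg B U →
        HasFrame (· = true) (resB B U) (resG g U hU) → HasFrame (· = true) B g := by
      intro U hU0 hU hnd h1
      refine hasFrame_sum hI hnd hU h1 ?_
      refine ih _ ?_ _ rfl _ _ ε m (hI.res (hI.nondeg_perp hnd) (hI.perp_invariant hU)) hε hm
        (hh.res (hI.isCompl hnd).symm (hI.perp_invariant hU) hU)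
      have := Submodule.finrank_add_eq_of_isCompl (hI.isCompl hnd)
      have : 0 < finrank F U := Nat.pos_of_ne_zero fun e => hU0 (Submodule.finrank_eq_zero.1 e)
      omega
    rcases three_cases hI with ⟨U, h0, h1, hnd, hU⟩ | ⟨W, hW0, hW⟩ | ⟨ε', m', hε', hm', hN, hN', -⟩
    · refine split U h0 hU hnd (ih _ ?_ _ rfl _ _ ε m (hI.res hnd hU) hε hm
        (hh.res (hI.isCompl hnd) hU (hI.perp_invariant hU)))
      rw [← hn]
      exact Submodule.finrank_lt (lt_top_iff_ne_top.2 h1).ne
    · exact split (Piece.space g W)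
        (fun e => hW0 (le_bot_iff.1 (e ▸ (le_sup_left : W ≤ Piece.space g W))))
        hW.invariant (hW.nondeg_space hI) (hW.hasFrame (Q := (· = true)) rfl hI)
    · exfalso
      obtain ⟨v, hv0, hv⟩ := exists_kernel (nil g ε) hh.1
      have hgv : g v = ε • v := sub_eq_zero.1 hv
      obtain rfl : ε' = ε := by
        have hk : ∀ k, (nil g ε' ^ k) v = (ε - ε') ^ k • v := by
          intro k
          induction k with
          | zero => simp
          | succ k ihk =>
            rw [pow_succ', Module.End.mul_apply, ihk, map_smul, nil_apply, hgv, ← sub_smul,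
              smul_smul, pow_succ]
        have h0 := LinearMap.congr_fun hN v
        rw [hk, LinearMap.zero_apply] at h0
        exact (sub_eq_zero.1 (pow_eq_zero_iff (Nat.succ_ne_zero _) |>.1
          ((smul_eq_zero.1 h0).resolve_right hv0))).symm
      obtain ⟨z, rfl⟩ := hh.2 v hv
      have hlt : m' + 1 ≤ m - 1 := by
        have : m' < m := by
          by_contra hle
          exact hN' (pow_eq_zero_of_le (by omega) hh.1)
        obtain ⟨a, rfl⟩ := hm
        obtain ⟨b, rfl⟩ := hm'
        omega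
      exact hv0 (by rw [pow_eq_zero_of_le hlt hN]; rfl)

variable {ε : F}

omit [FiniteDimensional F V] in
theorem top_eigen {m : ℕ} (hN : nil g ε ^ (m + 1) = 0) (t : V) :
    g ((nil g ε ^ m) t) = ε • (nil g ε ^ m) t := by
  refine sub_eq_zero.1 ?_
  rw [← nil_apply, ← Module.End.mul_apply, ← pow_succ', hN]; rfl

omit [FiniteDimensional F V] in
theorem pair_shift (hI : Isom B g) (hε : ε * ε = 1) {m : ℕ} (hN : nil g ε ^ (m + 1) = 0) :
    ∀ (i j : ℕ) (z t : V), i + j = m →
      B ((nil g ε ^ i) z) ((nil g ε ^ j) t) = (-1) ^ i * B z ((nil g ε ^ m) t) := by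
  intro i
  induction i with
  | zero => intro j z t h; simp [← h]
  | succ i ih =>
    intro j z t h
    rw [pow_succ' (nil g ε) i, Module.End.mul_apply, hI.nil_adjoint hε,
      ← Module.End.mul_apply (nil g ε), ← pow_succ']
    have hc : g.symm ((nil g ε ^ (j + 1)) t) = (nil g ε ^ (j + 1)) (g.symm t) := by
      refine g.injective ?_
      rw [← nil_g, g.apply_symm_apply, g.apply_symm_apply]
    have htop : (nil g ε ^ m) (g.symm t) = ε • (nil g ε ^ m) t := by
      conv_rhs => rw [← g.apply_symm_apply t, nil_g, top_eigen hN, smul_smul, hε, one_smul]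
    rw [hc, ih (j + 1) z _ (by omega), htop, map_smul, smul_eq_mul, pow_succ]
    linear_combination (-((-1 : F) ^ i) * B z ((nil g ε ^ m) t)) * hε

omit [FiniteDimensional F V] in
theorem pair_coeff (hI : Isom B g) (hε : ε * ε = 1) {m : ℕ} (hN : nil g ε ^ (m + 1) = 0)
    (a : F[X]) (z t : V) :
    B (aeval (nil g ε) a z) ((nil g ε ^ m) t) = a.coeff 0 * B z ((nil g ε ^ m) t) := by
  conv_lhs => rw [← X_mul_divX_add a]
  rw [map_add, map_mul, aeval_X, aeval_C, LinearMap.add_apply, Module.End.mul_apply,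
    Module.algebraMap_end_apply, map_add, LinearMap.add_apply, map_smul, LinearMap.smul_apply,
    smul_eq_mul, hI.nil_adjoint hε, ← Module.End.mul_apply (nil g ε), ← pow_succ', hN]
  simp

omit [FiniteDimensional F V] in
/-- Only multiples of `X ^ (m + 1)` give vectors orthogonal to the pair. -/
theorem pair_dvd (hI : Isom B g) (hε : ε * ε = 1) {m : ℕ} (hN : nil g ε ^ (m + 1) = 0)
    (hself : ∀ v, B ((nil g ε ^ m) v) v = 0) {x y : V} (hxy : B ((nil g ε ^ m) x) y ≠ 0)
    {a b : F[X]} (h : ∀ j, B (aeval (nil g ε) a x + aeval (nil g ε) b y) ((nil g ε ^ j) x) = 0 ∧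
      B (aeval (nil g ε) a x + aeval (nil g ε) b y) ((nil g ε ^ j) y) = 0) :
    X ^ (m + 1) ∣ a ∧ X ^ (m + 1) ∣ b := by
  have hyx : B y ((nil g ε ^ m) x) ≠ 0 := by rw [hI.swap]; exact neg_ne_zero.2 hxy
  have hxy' : B x ((nil g ε ^ m) y) ≠ 0 := by
    have h2 := hself (x + y)
    simp only [map_add, LinearMap.add_apply, hself, zero_add, add_zero] at h2
    rw [hI.swap, neg_ne_zero]
    intro h0
    exact hxy (by linear_combination h2 - h0)
  suffices ∀ i ≤ m + 1, X ^ i ∣ a ∧ X ^ i ∣ b from this _ le_rfl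
  intro i
  induction i with
  | zero => simp
  | succ i ih =>
    intro hi
    obtain ⟨⟨a', rfl⟩, b', rfl⟩ := ih (by omega)
    have hs : ∀ t, B ((nil g ε ^ i) (aeval (nil g ε) a' x + aeval (nil g ε) b' y))
        ((nil g ε ^ (m - i)) t) = (-1) ^ i * (a'.coeff 0 * B x ((nil g ε ^ m) t) +
          b'.coeff 0 * B y ((nil g ε ^ m) t)) := fun t => by
      rw [pair_shift hI hε hN i (m - i) _ t (by omega), map_add, LinearMap.add_apply,
        pair_coeff hI hε hN, pair_coeff hI hε hN]
    have he : aeval (nil g ε) (X ^ i * a') x + aeval (nil g ε) (X ^ i * b') y =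
        (nil g ε ^ i) (aeval (nil g ε) a' x + aeval (nil g ε) b' y) := by
      simp [Module.End.mul_apply]
    have hz : ∀ v, B v ((nil g ε ^ m) v) = 0 := fun v => by rw [hI.swap, hself, neg_zero]
    have h1 := (h (m - i)).1
    have h2 := (h (m - i)).2
    rw [he, hs, hz, mul_zero, zero_add, ← mul_assoc] at h1
    rw [he, hs, hz, mul_zero, add_zero, ← mul_assoc] at h2
    have hu : (-1 : F) ^ i ≠ 0 := pow_ne_zero _ (by simp)
    simp only [mul_eq_zero, hu, hyx, hxy', false_or, or_false] at h1 h2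
    rw [pow_succ]
    exact ⟨mul_dvd_mul_left _ (X_dvd_iff.2 h2), mul_dvd_mul_left _ (X_dvd_iff.2 h1)⟩

/-- An eigenvector with homogeneous quotient gives a line. -/
theorem hasFrame_line (hI : Isom B g) (hε : ε * ε = 1) {u w : V} (hu : g u = ε • u)
    (hwu : B w u = 1) (h4 : 6 ≤ finrank F V)
    (hh : ∀ (C : Submodule F V), C = perp B (Submodule.span F {u, w}) → ∀ h : C ≃ₗ[F] C,
      (∀ c : C, (h c).1 = g c.1 - B w (g c.1) • u) → ∃ m, Even m ∧ Homog h ε m) :
    HasFrame (fun _ => True) B g := by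
  set C := perp B (Submodule.span F {u, w}) with hC
  have huu : B u u = 0 := hI.alt u
  have huw : B u w = -1 := by rw [hI.swap, hwu]
  have hCmem : ∀ x, x ∈ C ↔ B x u = 0 ∧ B x w = 0 := fun x => by
    rw [hC, mem_perp]
    refine ⟨fun h => ⟨h u (Submodule.subset_span (by simp)), h w (Submodule.subset_span (by simp))⟩,
      fun h z hz => ?_⟩
    obtain ⟨a, b, rfl⟩ := Submodule.mem_span_pair.1 hz
    simp [h.1, h.2]
  have hgu : ∀ x, B x u = 0 → B (g x) u = 0 := fun x hx => by
    have := hI.pres x u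
    rw [hu, map_smul, smul_eq_mul, hx, mul_eq_zero] at this
    exact this.resolve_left (fun e => by simp [e] at hε)
  have hndU : Nondeg B (Submodule.span F {u, w}) := by
    intro x hx h
    obtain ⟨a, b, rfl⟩ := Submodule.mem_span_pair.1 hx
    have h1 := h u (Submodule.subset_span (by simp))
    have h2 := h w (Submodule.subset_span (by simp))
    simp [huu, hwu, huw, hI.alt w] at h1 h2
    simp [h1, h2]
  let h0 : C →ₗ[F] C :=
    { toFun := fun c => ⟨g c.1 - B w (g c.1) • u, (hCmem _).2 ⟨by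
        simp [huu, hgu _ ((hCmem _).1 c.2).1], by
        simp [huw, hI.swap w (g c.1)]⟩⟩
      map_add' := fun c d => Subtype.ext (by simp [add_smul]; abel)
      map_smul' := fun r c => Subtype.ext (by simp [smul_sub, smul_smul]) }
  have hpres : ∀ c d : C, B (h0 c).1 (h0 d).1 = B c.1 d.1 := fun c d => by
    simp [h0, hI.pres, huu, hgu _ ((hCmem _).1 c.2).1, hI.swap (g d.1) u,
      hgu _ ((hCmem _).1 d.2).1]
  have hndC : Nondeg B C := hI.nondeg_perp hndU
  have hinj : Function.Injective h0 := by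
    rw [injective_iff_map_eq_zero]
    exact fun c hc => Subtype.ext (hndC c.1 c.2 fun d hd => by
      rw [← hpres c ⟨d, hd⟩, hc]; simp)
  let h := LinearEquiv.ofInjectiveEndo h0 hinj
  obtain ⟨m, hm, hH⟩ := hh C rfl h fun c => rfl
  have hIC : Isom (resB B C) h := ⟨fun x => hI.alt x.1,
    fun x hx => Subtype.ext (hndC x.1 x.2 fun d hd => hx ⟨d, hd⟩), hpres⟩
  obtain ⟨n, e, f₁, s, p, εs, hF, hs⟩ := hasFrame_homog _ C rfl _ _ ε m hIC hε hm hH
  have hdimU : finrank F (Submodule.span F {u, w}) ≤ 2 := by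
    classical
    have := finrank_span_finset_le_card (R := F) ({u, w} : Finset V)
    rw [Set.finrank, Finset.coe_insert, Finset.coe_singleton] at this
    exact this.trans Finset.card_le_two
  have hdimC := Submodule.finrank_add_eq_of_isCompl (hI.isCompl hndU)
  have hind : LinearIndependent F ![u, w] := by
    rw [LinearIndependent.pair_iff]
    intro a b hab
    have h1 := congrArg (fun z => B z u) hab
    have h2 := congrArg (fun z => B z w) hab
    simp [huu, hwu, huw, hI.alt w] at h1 h2
    exact ⟨h2, h1⟩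
  have hdimU' : finrank F (Submodule.span F {u, w}) = 2 := by
    have := finrank_span_eq_card hind
    rwa [show Set.range ![u, w] = {u, w} by simp [Matrix.range_cons, Matrix.range_empty, Set.pair_comm],
      Fintype.card_fin] at this
  have hdim : 2 * n + 2 = finrank F V := by
    have := hF.dim
    rw [Fintype.card_fin] at this
    rw [← hdimC, ← hC, hdimU', this, add_comm]
  have hn : 2 ≤ n := by omega
  have he : ∀ i j, B (e i).1 (e j).1 = 0 := hF.ee
  have heu : ∀ i, B (e i).1 u = 0 ∧ B (e i).1 w = 0 := fun i => (hCmem _).1 (e i).2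
  have hge : ∀ i j, B (g (e i).1) (e j).1 = B (h (e i)).1 (e j).1 := fun i j => by
    change _ = B (g (e i).1 - B w (g (e i).1) • u) (e j).1
    simp [hI.swap (e j).1 u, (heu j).1]
  have hinj' : ∀ c : Fin n → F, (∀ i, ∑ j, c j * B (g (e j).1) (e i).1 = 0) → c = 0 := fun c hc =>
    hF.inj c (fun i hi => by simp [hs i] at hi) fun i _ => by
      rw [← hc i]; simp only [hge]; rfl
  obtain ⟨f, ff, fe, col, hge', hspan⟩ := exists_partner hI (fun i => (e i).1) he hinj'
  have hfu : ∀ i, B (f i) u = 0 := fun i => by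
    have : Submodule.span F (Set.range fun k => g (e k).1) ≤ LinearMap.ker (B.flip u) := by
      rw [Submodule.span_le]
      rintro _ ⟨k, rfl⟩
      exact LinearMap.mem_ker.2 (hgu _ (heu k).1)
    exact LinearMap.mem_ker.1 (this (hspan i))
  set w' := w + ∑ j, B w (f j) • (e j).1 with hw'
  have hw'e : ∀ j, B w' (e j).1 = 0 := fun j => by
    simp [hw', he, hI.swap (e j).1 w, (heu j).2]
  have hw'f : ∀ i, B w' (f i) = 0 := fun i => by
    simp [hw', hI.swap (f i) (e _).1, fe, mul_ite, Finset.sum_ite_eq]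
  have hw'u : B w' u = 1 := by simp [hw', hwu, (fun j => (heu j).1)]
  have hw'g : ∀ k, B w' (g (e k).1) = 0 := fun k => by
    rw [hge' k]; simp [hw'f]
  refine Frame.hasFrame (ι := Option (Fin n)) (e := fun i => i.elim u fun j => (e j).1)
    (f := fun i => i.elim w' f) (s := fun i => i.elim false fun _ => true) (p := fun _ => false)
    (ε := fun i => i.elim ε fun _ => 1)
    { dim := ?_, ee := ?_, ff := ?_, fe := ?_, sgn := ?_, eig := ?_, plane := ?_, col := ?_,
      sym := ?_, inj := ?_, count := ?_ } fun _ => trivial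
  · rw [Fintype.card_option, Fintype.card_fin, ← hdim, mul_add, mul_one]
  · rintro (_ | i) (_ | j)
    exacts [huu, by rw [Option.elim_none, Option.elim_some, hI.swap, (heu j).1, neg_zero],
      (heu i).1, he i j]
  · rintro (_ | i) (_ | j)
    exacts [hI.alt w', hw'f j, by rw [Option.elim_none, Option.elim_some, hI.swap, hw'f, neg_zero],
      ff i j]
  · rintro (_ | i) (_ | j)
    · simpa using hw'u
    · simpa using hw'e j
    · simpa using hfu i
    · simpa using fe i j
  · rintro (_ | i)
    exacts [sgn_of_sq hε, Or.inl rfl]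
  · rintro (_ | i) hi
    exacts [hu, Bool.noConfusion hi]
  · intro i hi
    exact Bool.noConfusion hi
  · rintro (_ | i) (_ | j) hj
    exacts [Bool.noConfusion hj, hw'g j, Bool.noConfusion hj, col i j]
  · rintro (_ | i) (_ | j) hi hj
    all_goals first | exact Bool.noConfusion hi | exact Bool.noConfusion hj | skip
    change B (g (e i).1) (e j).1 = B (g (e j).1) (e i).1
    rw [hge, hge]
    exact hF.sym i j (hs i) (hs j)
  · intro c hc hsum
    have h0 : c none = 0 := hc none rfl
    have h1 : (fun j => c (some j)) = 0 := hinj' _ fun i => by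
      have := hsum (some i) rfl
      rwa [Fintype.sum_option, h0, zero_mul, zero_add] at this
    funext i
    rcases i with _ | i
    exacts [h0, congrFun h1 i]
  · intro _
    refine hn.trans ?_
    have := Finset.card_le_card_of_injOn (s := (Finset.univ : Finset (Fin n)))
      (t := Finset.univ.filter fun i : Option (Fin n) => (i.elim false fun _ => true) = true) some
      (fun a _ => by simp) (Option.some_injective _).injOn
    simpa using this

/-- The exceptional pair. -/
theorem hasFrame_pair (hI : Isom B g) (hε : ε * ε = 1) {m : ℕ} (hm : Even m) (hm0 : m ≠ 0)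
    (hN : nil g ε ^ (m + 1) = 0) (hself : ∀ v, B ((nil g ε ^ m) v) v = 0) {x y : V}
    (hxy : B ((nil g ε ^ m) x) y ≠ 0)
    (hspan : ∀ v, ∃ a b : F[X], v = aeval (nil g ε) a x + aeval (nil g ε) b y) :
    HasFrame (fun _ => True) B g := by
  set N := nil g ε with hNdef
  have hm2 : 2 ≤ m := by obtain ⟨k, rfl⟩ := hm; omega
  obtain ⟨u, hu⟩ : ∃ u, u = (N ^ m) x := ⟨_, rfl⟩
  have hxy0 := hxy
  rw [← hu] at hxy
  obtain ⟨w, hw⟩ : ∃ w, w = (B y u)⁻¹ • y := ⟨_, rfl⟩
  have hyu : B y u ≠ 0 := by rw [hI.swap]; exact neg_ne_zero.2 hxy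
  have hwu : B w u = 1 := by simp [hw, inv_mul_cancel₀ hyu]
  have hNu : N u = 0 := by rw [hu, ← Module.End.mul_apply, ← pow_succ', hN]; rfl
  have hNm : ∀ z, (N ^ m) (N z) = 0 := fun z => by
    rw [← Module.End.mul_apply, ← pow_succ, hN]; rfl
  have hxu : B x u = 0 := by rw [hu, hI.swap, hself, neg_zero]
  have hNzu : ∀ z, B (N z) u = 0 := fun z => by
    have := pair_coeff hI hε hN X z x
    rw [coeff_X_zero, zero_mul, aeval_X] at this
    rw [hu]
    exact this
  have hzero : ∀ a b : F[X], aeval N a x + aeval N b y = 0 →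
      X ^ (m + 1) ∣ a ∧ X ^ (m + 1) ∣ b := fun a b h =>
    pair_dvd hI hε hN hself hxy0 fun j => by rw [h]; simp
  have h6 : 6 ≤ finrank F V := by
    have hli : LinearIndependent F
        (Sum.elim (fun i : Fin 3 => (N ^ (i : ℕ)) x) fun i : Fin 3 => (N ^ (i : ℕ)) y) := by
      rw [Fintype.linearIndependent_iff]
      intro c hc
      have := hzero (∑ i : Fin 3, C (c (.inl i)) * X ^ (i : ℕ))
        (∑ i : Fin 3, C (c (.inr i)) * X ^ (i : ℕ))
        (by simpa [Fintype.sum_sum_type, LinearMap.sum_apply, Module.End.mul_apply] using hc)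
      rintro (i | i)
      · have h1 := X_pow_dvd_iff.1 this.1 i.1 (by omega)
        simpa [finsetSum_coeff, coeff_C_mul_X_pow, Fin.val_inj] using h1
      · have h1 := X_pow_dvd_iff.1 this.2 i.1 (by omega)
        simpa [finsetSum_coeff, coeff_C_mul_X_pow, Fin.val_inj] using h1
    simpa using hli.fintype_card_le_finrank
  have hgu : g u = ε • u := by rw [hu]; exact top_eigen hN x
  refine hasFrame_line hI hε hgu hwu h6 fun C hC h hh => ⟨m, hm, ?_⟩
  have hCu : ∀ c ∈ C, B c u = 0 := fun c hc => by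
    rw [hC, mem_perp] at hc; exact hc u (Submodule.subset_span (by simp))
  have hCw : ∀ c ∈ C, B c w = 0 := fun c hc => by
    rw [hC, mem_perp] at hc; exact hc w (Submodule.subset_span (by simp))
  have huC : ∀ (c d : C) (r : F), d.1 = c.1 + r • u → d = c := fun c d r e => by
    have h1 := hCw d.1 d.2
    rw [e, map_add, LinearMap.add_apply, hCw c.1 c.2, zero_add, map_smul, LinearMap.smul_apply,
      smul_eq_mul, hI.swap w u, hwu, mul_neg_one, neg_eq_zero] at h1
    exact Subtype.ext (by rw [e, h1, zero_smul, add_zero])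
  have hk : ∀ (k : ℕ) (c : C), ∃ r : F, ((nil h ε ^ k) c).1 = (N ^ k) c.1 + r • u := by
    intro k c
    induction k with
    | zero => exact ⟨0, by simp⟩
    | succ k ih =>
      obtain ⟨r, hr⟩ := ih
      refine ⟨-B w (g ((nil h ε ^ k) c).1), ?_⟩
      rw [pow_succ', pow_succ', Module.End.mul_apply, Module.End.mul_apply, nil_apply,
        Submodule.coe_sub, Submodule.coe_smul, hh]
      have hg : g ((nil h ε ^ k) c).1 - ε • ((nil h ε ^ k) c).1 = N ((N ^ k) c.1) := by
        rw [← nil_apply, ← hNdef, hr, map_add, map_smul, hNu, smul_zero, add_zero]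
      rw [← hg]
      module
  refine ⟨LinearMap.ext fun c => ?_, fun c hc => ?_⟩
  · obtain ⟨r, hr⟩ := hk m c
    obtain ⟨a, b, hab⟩ := hspan c.1
    have hb : b.coeff 0 = 0 := by
      have := hCu c.1 c.2
      rw [hab, map_add, LinearMap.add_apply, hu, pair_coeff hI hε hN, pair_coeff hI hε hN, ← hu,
        hxu, mul_zero, zero_add] at this
      exact (mul_eq_zero.1 this).resolve_right hyu
    have htop : ∀ (q : F[X]) (z : V), (N ^ m) (aeval N q z) = q.coeff 0 • (N ^ m) z := fun q z => by
      conv_lhs => rw [← X_mul_divX_add q]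
      rw [map_add, map_mul, aeval_X, aeval_C, LinearMap.add_apply, Module.End.mul_apply,
        Module.algebraMap_end_apply, map_add, hNm, map_smul, zero_add]
    refine huC 0 _ (a.coeff 0 + r) ?_
    rw [hr, hab, map_add, htop, htop, hb, ← hu, zero_smul, add_zero, Submodule.coe_zero, zero_add,
      add_smul]
  · obtain ⟨r, hr⟩ := hk 1 c
    rw [pow_one, pow_one, hc] at hr
    obtain ⟨a, b, hab⟩ := hspan c.1
    have hb : b.coeff 0 = 0 := by
      have := hCu c.1 c.2
      rw [hab, map_add, LinearMap.add_apply, hu, pair_coeff hI hε hN, pair_coeff hI hε hN, ← hu,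
        hxu, mul_zero, zero_add] at this
      exact (mul_eq_zero.1 this).resolve_right hyu
    obtain ⟨b', rfl⟩ := X_dvd_iff.2 hb
    have h0 := hzero (X * a + Polynomial.C r * X ^ m) (X * (X * b')) (by
      simp only [map_add, map_mul, aeval_X, aeval_C, map_pow, Module.End.mul_apply,
        LinearMap.add_apply, Module.algebraMap_end_apply]
      rw [← hu]
      have h1 : N (aeval N a x + aeval N (X * b') y) + r • u = 0 := by rw [← hab]; exact hr.symm
      rw [← h1, map_add, map_mul, aeval_X, Module.End.mul_apply]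
      module)
    obtain ⟨k, rfl⟩ : ∃ k, m = k + 2 := ⟨m - 2, by omega⟩
    obtain ⟨⟨a'', ha⟩, b'', hb'⟩ := h0
    have hx0 : (X : F[X]) ≠ 0 := X_ne_zero
    have hb2 : b' = X ^ (k + 1) * b'' := mul_left_cancel₀ hx0 (mul_left_cancel₀ hx0 (by
      rw [hb']; ring))
    have ha2 : a = X ^ (k + 1) * (X * a'' - Polynomial.C r) := mul_left_cancel₀ hx0 (by
      linear_combination ha)
    set z := aeval N (X * a'' - Polynomial.C r) x + aeval N (X * b'') y with hz
    have hzu : B z u = 0 := by
      simp [hz, Module.End.mul_apply, hNzu, hxu]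
    have hzC : z - B w z • u ∈ C := by
      rw [hC, mem_perp]
      intro t ht
      obtain ⟨s, s', rfl⟩ := Submodule.mem_span_pair.1 ht
      simp [hzu, hI.alt u, hI.swap w z, hI.swap w u, hwu, mul_comm]
    refine ⟨⟨_, hzC⟩, ?_⟩
    rw [show k + 2 - 1 = k + 1 by omega]
    obtain ⟨r', hr'⟩ := hk (k + 1) ⟨_, hzC⟩
    refine huC c _ r' ?_
    rw [hr']
    congr 1
    rw [map_sub, map_smul, pow_succ, Module.End.mul_apply _ _ u, hNu, map_zero, smul_zero, sub_zero,
      hab, ha2, hb2, hz, ← pow_succ, mul_left_comm X (X ^ (k + 1))]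
    simp [map_add, Module.End.mul_apply]

end CfsgLib.KnownB.OreSp
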