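import Cfsg.Agent.Lib.KnownB.OreSp.Block

/-!
The exceptional elements of the symplectic group of dimension four over three elements.
-/

set_option autoImplicit false

namespace CfsgLib.KnownB.OreSp

open Matrix

/-- A block sum of an element of `SL(2)` and `-1`. -/
def specialMat {R : Type*} [CommRing R] (ν d : R) : Matrix (Fin 2 ⊕ Fin 2) (Fin 2 ⊕ Fin 2) R :=
  fromBlocks !![0, 0; 0, -1] !![-ν, 0; 0, 0] !![ν, 0; 0, 0] !![d, 0; 0, -1]

theorem special_cert : ∀ ν d : ZMod 3, ν ≠ 0 →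
    ∃ a b : Matrix (Fin 2 ⊕ Fin 2) (Fin 2 ⊕ Fin 2) (ZMod 3),
      aᵀ * Matrix.J (Fin 2) (ZMod 3) * a = Matrix.J (Fin 2) (ZMod 3) ∧
      bᵀ * Matrix.J (Fin 2) (ZMod 3) * b = Matrix.J (Fin 2) (ZMod 3) ∧
      specialMat ν d * b * a = a * b := by
  intro ν d hν
  fin_cases ν <;> fin_cases d
  iterate 3 exact absurd rfl hν
  · exact ⟨(fromBlocks !![0, 1; 0, 0] !![0, 1; 1, 0]
      !![0, 0; 2, 0] !![0, 1; 0, 0]),
      (fromBlocks !![0, 2; 2, 0] !![0, 1; 0, 0]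
      !![0, 1; 2, 0] !![0, 1; 2, 0]),
      by decide +kernel, by decide +kernel, by decide +kernel⟩
  · exact ⟨(fromBlocks !![1, 0; 2, 0] !![0, 2; 0, 2]
      !![0, 2; 1, 2] !![2, 1; 1, 2]),
      (fromBlocks !![0, 2; 0, 2] !![0, 0; 2, 0]
      !![2, 0; 1, 2] !![1, 2; 1, 0]),
      by decide +kernel, by decide +kernel, by decide +kernel⟩
  · exact ⟨(fromBlocks !![1, 1; 2, 0] !![2, 0; 2, 2]
      !![0, 2; 1, 2] !![2, 2; 2, 0]),
      (fromBlocks !![0, 0; 0, 0] !![1, 0; 1, 2]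
      !![2, 2; 0, 1] !![1, 2; 1, 0]),
      by decide +kernel, by decide +kernel, by decide +kernel⟩
  · exact ⟨(fromBlocks !![0, 2; 1, 0] !![0, 0; 0, 0]
      !![0, 2; 1, 0] !![0, 2; 1, 0]),
      (fromBlocks !![0, 0; 2, 0] !![0, 1; 1, 0]
      !![0, 2; 2, 0] !![0, 2; 0, 0]),
      by decide +kernel, by decide +kernel, by decide +kernel⟩
  · exact ⟨(fromBlocks !![1, 2; 2, 0] !![0, 1; 2, 2]
      !![0, 0; 1, 0] !![0, 2; 0, 0]),
      (fromBlocks !![2, 0; 1, 1] !![1, 2; 0, 2]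
      !![0, 1; 0, 1] !![0, 2; 1, 2]),
      by decide +kernel, by decide +kernel, by decide +kernel⟩
  · exact ⟨(fromBlocks !![2, 1; 0, 0] !![1, 2; 1, 1]
      !![0, 0; 0, 2] !![2, 0; 1, 2]),
      (fromBlocks !![0, 1; 1, 1] !![1, 2; 2, 0]
      !![0, 1; 1, 1] !![0, 0; 0, 0]),
      by decide +kernel, by decide +kernel, by decide +kernel⟩

theorem map_J {R S : Type*} [CommRing R] [CommRing S] (f : R →+* S) :
    (Matrix.J (Fin 2) R).map f = Matrix.J (Fin 2) S := by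
  rw [Matrix.J, Matrix.J, fromBlocks_map, Matrix.map_zero _ (map_zero f), Matrix.map_one _ (map_zero f)
    (map_one f)]
  congr 1
  ext i j
  simp [Matrix.one_apply, apply_ite f]

theorem isComm_special {F : Type*} [Field F] [Fintype F] (h3 : Fintype.card F = 3)
    (g : Matrix.symplecticGroup (Fin 2) F) (ν d : F) (hν : ν ≠ 0) (hg : g.1 = specialMat ν d) :
    IsComm g := by
  have : CharP F 3 := charP_of_card_eq_prime h3
  let f : ZMod 3 →+* F := ZMod.castHom (dvd_refl 3) F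
  have hf : Function.Bijective f :=
    (Fintype.bijective_iff_injective_and_card _).2 ⟨ZMod.castHom_injective F, by rw [ZMod.card, h3]⟩
  obtain ⟨ν, rfl⟩ := hf.2 ν
  obtain ⟨d, rfl⟩ := hf.2 d
  obtain ⟨a, b, ha, hb, hab⟩ := special_cert ν d (fun e => hν (by rw [e, map_zero]))
  have hmem : ∀ x : Matrix (Fin 2 ⊕ Fin 2) (Fin 2 ⊕ Fin 2) (ZMod 3),
      xᵀ * Matrix.J (Fin 2) (ZMod 3) * x = Matrix.J (Fin 2) (ZMod 3) →
      x.map f ∈ Matrix.symplecticGroup (Fin 2) F := fun x hx => by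
    rw [SymplecticGroup.mem_iff', ← map_J f, ← Matrix.transpose_map, ← Matrix.map_mul,
      ← Matrix.map_mul, hx]
  refine ⟨⟨a.map f, hmem a ha⟩, ⟨b.map f, hmem b hb⟩, ?_⟩
  rw [eq_mul_inv_iff_mul_eq, eq_mul_inv_iff_mul_eq]
  refine Subtype.ext ?_
  simp only [Submonoid.coe_mul, hg]
  have h := congrArg (fun x => Matrix.map x f) hab
  simp only [Matrix.map_mul] at h
  rw [← h]
  congr 2
  simp only [specialMat, fromBlocks_map]
  congr 1 <;> ext i j <;> fin_cases i <;> fin_cases j <;> simp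

end CfsgLib.KnownB.OreSp
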