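import Cfsg.Agent.Lib.KnownB.OreSp.Normal
import Cfsg.Agent.Lib.KnownB.OreSp.Three
import Cfsg.Agent.Lib.KnownB.OreSp.Char2
import Cfsg.Agent.Lib.KnownB.OreSp.Special

/-!
Every element of a symplectic group over a finite field is a commutator.
-/

set_option autoImplicit false

namespace CfsgLib.KnownB.OreSp

open Matrix CfsgLib.Classical

variable {l : Type*} [Fintype l] [DecidableEq l] {F : Type*} [Field F]

/-- Corners from a symmetric matrix in odd characteristic. -/
theorem exists_diag_product (h2 : (2 : F) ≠ 0) {k : Type*} [Fintype k] [DecidableEq k] (μ : k → F)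
    (N : Matrix k k F) (hN : Nᵀ = N) (hu : IsUnit N.det) :
    ∃ S Q : Matrix k k F, Sᵀ = S ∧ IsUnit Q.det ∧ S * N = Q * diagonal μ * Q⁻¹ := by
  have : Invertible (2 : F) := invertibleOfNonzero h2
  have hsymm : LinearMap.IsSymm (Matrix.toBilin' N) := ⟨fun x y => by
    simp only [Matrix.toBilin'_apply', RingHom.id_apply]
    rw [dotProduct_mulVec, dotProduct_comm, ← mulVec_transpose, hN]⟩
  obtain ⟨v, hv⟩ := LinearMap.BilinForm.exists_orthogonal_basis hsymm
  let σ : Fin (Module.finrank F (k → F)) ≃ k := (Fintype.equivFinOfCardEq (by simp)).symm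
  let w := v.reindex σ
  let Q : Matrix k k F := (Pi.basisFun F k).toMatrix w
  have hQ : IsUnit Q.det := by
    have := (Pi.basisFun F k).invertibleToMatrix w
    exact Matrix.isUnit_det_of_invertible _
  have hD : Qᵀ * N * Q = diagonal fun i => Matrix.toBilin' N (w i) (w i) := by
    ext i j
    have e : (Qᵀ * N * Q) i j = Matrix.toBilin' N (w i) (w j) := by
      rw [Matrix.toBilin'_apply', Matrix.mul_assoc]
      simp [Q, Module.Basis.toMatrix_apply, Matrix.mul_apply, dotProduct, mulVec]
    rw [e]
    by_cases h : i = j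
    · subst h; simp
    · rw [diagonal_apply_ne _ h]
      simp only [w, Module.Basis.reindex_apply]
      exact hv (fun e' => h (σ.symm.injective e'))
  set d : k → F := fun i => Matrix.toBilin' N (w i) (w i)
  have hd : ∀ i, d i ≠ 0 := by
    have h : IsUnit (diagonal d).det := by
      rw [← hD, Matrix.det_mul, Matrix.det_mul]
      exact ((isUnit_det_transpose _ hQ).mul hu).mul hQ
    rw [det_diagonal, isUnit_iff_ne_zero, Finset.prod_ne_zero_iff] at h
    exact fun i => h i (Finset.mem_univ i)
  refine ⟨Q * diagonal (fun i => μ i / d i) * Qᵀ, Q,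
    by simp [Matrix.transpose_mul, Matrix.mul_assoc], hQ, ?_⟩
  have e2 : diagonal μ = diagonal (fun i => μ i / d i) * diagonal d := by
    rw [diagonal_mul_diagonal]; congr 1; funext i; rw [div_mul_cancel₀ _ (hd i)]
  rw [e2, ← hD]
  simp only [Matrix.mul_assoc, Matrix.mul_nonsing_inv _ hQ, Matrix.mul_one]

variable [Fintype F]

/-- Corners equal to the identity. -/
theorem isComm_of_identity {Φ : Polynomial F} (hΦ : Apart Φ) (hone : GoodM Φ (1 : Matrix l l F))
    (h1 : (-1 : F) = 1) {g : Matrix.symplecticGroup l F} {s p : l → Bool} {ε : l → F}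
    (hg : Normal g s p ε) : IsComm g := by
  obtain ⟨c, hc⟩ := hg.corner (Φ := Φ) (fun _ => 1) (fun N hN hu => ⟨N⁻¹, 1, by
    rw [Matrix.transpose_nonsing_inv, hN], by simp, by
    rw [Matrix.nonsing_inv_mul _ hu]; simp⟩) (by
    refine cast (congrArg (GoodM Φ) ?_) hone
    rw [← diagonal_one]
    congr 1
    funext i
    rcases hg.sgn i with e | e <;> simp [e, h1])
  exact IsComm.of_conj c (isComm_of_corner hΦ _ hc)

/-- Diagonal elements. -/
theorem isComm_diag (g : Matrix.symplecticGroup l F) (ε : l → F) (hε : ∀ i, ε i = 1 ∨ ε i = -1)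
    (hg : g.1 = fromBlocks (diagonal ε) 0 0 (diagonal ε)) : IsComm g := by
  classical
  obtain ⟨x, y, hxy⟩ : ∃ x y : F, x * x + y * y = -1 := by
    by_cases h : ringChar F = 2
    · have : CharP F 2 := h ▸ ringChar.charP F
      exact ⟨1, 0, by rw [CharTwo.neg_eq]; ring⟩
    obtain ⟨a, b, hab⟩ := FiniteField.exists_root_sum_quadratic
      (Polynomial.degree_X_pow (R := F) 2) (Polynomial.degree_X_pow_sub_C two_pos (-1 : F))
      (FiniteField.odd_card_of_char_ne_two h)
    exact ⟨a, b, by simp at hab; linear_combination hab⟩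
  let A : l → F := fun i => if ε i = 1 then 1 else 0
  let B : l → F := fun i => if ε i = 1 then 0 else 1
  let P : l → F := fun i => if ε i = 1 then 1 else x
  let Q : l → F := fun i => if ε i = 1 then 0 else y
  let R : l → F := fun i => if ε i = 1 then 1 else -x
  have hA : fromBlocks (diagonal A) (diagonal fun i => -B i) (diagonal B) (diagonal A) ∈
      Matrix.symplecticGroup l F := by
    rw [SymplecticGroup.mem_iff']
    simp only [Matrix.J, fromBlocks_transpose, diagonal_transpose, fromBlocks_multiply,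
      ← diagonal_one, ← diagonal_zero, diagonal_neg, diagonal_mul_diagonal, diagonal_add]
    congr 1 <;> congr 1 <;> funext i <;> by_cases e : ε i = 1 <;> simp [A, B, e]
  have hB : fromBlocks (diagonal P) (diagonal Q) (diagonal Q) (diagonal R) ∈
      Matrix.symplecticGroup l F := by
    rw [SymplecticGroup.mem_iff']
    simp only [Matrix.J, fromBlocks_transpose, diagonal_transpose, fromBlocks_multiply,
      ← diagonal_one, ← diagonal_zero, diagonal_neg, diagonal_mul_diagonal, diagonal_add]
    congr 1 <;> congr 1 <;> funext i <;> by_cases e : ε i = 1 <;> simp [P, Q, R, e]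
    all_goals first | ring1 | linear_combination hxy | linear_combination -hxy
  refine ⟨⟨_, hA⟩, ⟨_, hB⟩, ?_⟩
  rw [eq_mul_inv_iff_mul_eq, eq_mul_inv_iff_mul_eq]
  refine Subtype.ext ?_
  simp only [Submonoid.coe_mul, hg, fromBlocks_multiply, ← diagonal_zero, diagonal_mul_diagonal,
    diagonal_add]
  congr 1 <;> congr 1 <;> funext i <;> by_cases e : ε i = 1
  all_goals simp only [A, B, P, Q, R, e, if_true, if_false]
  all_goals try rw [(hε i).resolve_left e]
  all_goals ring

theorem exists_nonsquare_ne (hodd : ringChar F ≠ 2) (h5 : 5 ≤ Fintype.card F) :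
    ∃ d : F, (∀ x : F, x * x ≠ -d) ∧ d * d ≠ 1 := by
  classical
  obtain ⟨a, ha⟩ := FiniteField.exists_nonsquare hodd
  have ha0 : a ≠ 0 := fun e => ha (e ▸ IsSquare.zero)
  by_contra hcon
  push Not at hcon
  have key : ∀ t : F, t ≠ 0 → a * (t * t) = -1 := by
    intro t ht
    have hns : ∀ x : F, x * x ≠ a * (t * t) := fun x e => ha ⟨x / t, by field_simp; linear_combination -e⟩
    have := hcon (-(a * (t * t))) (by simpa using hns)
    rw [neg_mul_neg, mul_self_eq_one_iff] at this
    exact this.resolve_left fun e => hns 1 (by rw [e, mul_one])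
  have hall : ∀ t : F, t ∈ ({0, 1, -1} : Finset F) := fun t => by
    by_cases ht : t = 0
    · simp [ht]
    have h1 := key 1 one_ne_zero
    have h2 := key t ht
    have : t * t = 1 := mul_left_cancel₀ ha0 (by linear_combination h2 - h1)
    rcases mul_self_eq_one_iff.1 this with e | e <;> simp [e]
  have := Finset.card_le_card (fun t _ => hall t : (Finset.univ : Finset F) ⊆ {0, 1, -1})
  rw [Finset.card_univ] at this
  exact absurd (this.trans Finset.card_le_three) (by omega)

theorem exists_scalar (h4 : 4 ≤ Fintype.card F) : ∃ c : F, c ≠ 0 ∧ c * c ≠ 1 := by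
  classical
  by_contra hcon
  push Not at hcon
  have hall : ∀ t : F, t ∈ ({0, 1, -1} : Finset F) := fun t => by
    by_cases ht : t = 0
    · simp [ht]
    rcases mul_self_eq_one_iff.1 (hcon t ht) with e | e <;> simp [e]
  have := Finset.card_le_card (fun t _ => hall t : (Finset.univ : Finset F) ⊆ {0, 1, -1})
  rw [Finset.card_univ] at this
  exact absurd (this.trans Finset.card_le_three) (by omega)

/-- Ore's property for `Sp(2m, F)`. -/
theorem isComm_sp (m : ℕ) (h1 : m = 1 → 4 ≤ Fintype.card F)
    (h2 : m = 2 → 3 ≤ Fintype.card F) (g : Matrix.symplecticGroup (Fin m) F) : IsComm g := by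
  classical
  obtain ⟨n, e, f, s, p, ε, hfr, -⟩ := exists_frame _ (Fin m ⊕ Fin m → F) rfl _ _ (isom_spEquiv g)
  have hcard := exists_equiv_of_frame hfr
  obtain ⟨c, hc⟩ := normal_of_frame hfr (Fintype.equivOfCardEq hcard)
  refine IsComm.of_conj c ?_
  generalize hσ : s ∘ Fintype.equivOfCardEq hcard = s' at hc
  generalize hpσ : p ∘ Fintype.equivOfCardEq hcard = p' at hc
  generalize hεσ : ε ∘ Fintype.equivOfCardEq hcard = ε' at hc
  by_cases h2F : (2 : F) = 0
  · -- characteristic two
    have hneg : (-1 : F) = 1 := by linear_combination -h2F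
    rcases Nat.eq_zero_or_pos m with rfl | hm
    · exact ⟨1, 1, Subtype.ext (Subsingleton.elim _ _)⟩
    by_cases h4 : 4 ≤ Fintype.card F
    · obtain ⟨t, ht0, ht⟩ := exists_scalar h4
      exact isComm_of_identity (apart_X_sub_C t ht) (goodM_one ht0) hneg hc
    · have : CharP F 2 := by
        have hr : ringChar F = 2 := by
          have h : ((2 : ℕ) : F) = 0 := by exact_mod_cast h2F
          exact ((Nat.dvd_prime Nat.prime_two).1 ((ringChar.spec F 2).1 h)).resolve_left
            (CharP.ringChar_ne_one)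
        exact hr ▸ ringChar.charP F
      refine isComm_of_identity apart_polyTwo (goodM_one_two m ?_) hneg hc
      have hc2 : Fintype.card F = 2 := by
        have := FiniteField.even_card_iff_char_two.1 (ringChar.eq F 2)
        have h1' : 1 < Fintype.card F := Fintype.one_lt_card
        omega
      by_contra hm3
      interval_cases m
      · have := h1 rfl; omega
      · have := h2 rfl; omega
  -- odd characteristic
  have hne : (-1 : F) ≠ 1 := fun e => h2F (by linear_combination -e)
  have hodd : ringChar F ≠ 2 := fun e => h2F <| by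
    have : CharP F 2 := e ▸ ringChar.charP F
    exact CharTwo.two_eq_zero
  by_cases hgen : ∀ i, s' i = false
  · exact isComm_diag _ ε' hc.sgn (hc.diag hgen)
  push Not at hgen
  obtain ⟨i0, hi0⟩ := hgen
  replace hi0 : s' i0 = true := by simpa using hi0
  let w1 : Fin m → F := fun i => if s' i = true then 1 else ε' i
  let μ : Fin m → F := fun i => if Even (Finset.univ.filter fun j => ¬ w1 j = 1).card then 1
    else if i = i0 then -1 else 1
  let w : Fin m → F := fun i => if s' i = true then μ i else ε' i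
  have hw : ∀ i, w i = 1 ∨ w i = -1 := fun i => by
    simp only [w, μ]; split_ifs <;> first | exact Or.inl rfl | exact Or.inr rfl | exact hc.sgn i
  have finish : ∀ {Φ : Polynomial F}, Apart Φ → GoodD Φ
      (Finset.univ.filter fun i => w i = 1).card (Finset.univ.filter fun i => ¬ w i = 1).card →
      IsComm (c⁻¹ * g * c) := by
    intro Φ hΦ hD
    obtain ⟨d, hd⟩ := hc.corner (Φ := Φ) μ
      (fun N hN hu => exists_diag_product h2F _ N hN hu) (goodM_diagonal w hw hD)
    exact IsComm.of_conj d (isComm_of_corner hΦ _ hd)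
  -- the number of entries `-1` is even
  have hb : Even (Finset.univ.filter fun i => ¬ w i = 1).card := by
    by_cases he : Even (Finset.univ.filter fun j => ¬ w1 j = 1).card
    · have : w = w1 := funext fun i => by simp only [w, μ, if_pos he]; rfl
      rwa [this]
    · have : (Finset.univ.filter fun i => ¬ w i = 1) =
          insert i0 (Finset.univ.filter fun j => ¬ w1 j = 1) := by
        ext i
        simp only [Finset.mem_filter, Finset.mem_univ, true_and, Finset.mem_insert, w, μ, if_neg he,
          w1]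
        by_cases h : i = i0
        · subst h; simp [hi0, hne]
        · simp [h]
      rw [this, Finset.card_insert_of_notMem (by simp [w1, hi0])]
      exact (Nat.not_even_iff_odd.1 he).add_one
  by_cases h5 : 5 ≤ Fintype.card F
  · obtain ⟨t, ht0, ht⟩ := exists_scalar (by omega : 4 ≤ Fintype.card F)
    obtain ⟨d, hd, hd2⟩ := exists_nonsquare_ne hodd h5
    exact finish (apart_polyBig ht hd hd2)
      (goodD_big ht0 (fun e => hd 0 (by rw [e]; ring)) _ _ hb)
  have h3 : Fintype.card F = 3 := by
    have := FiniteField.odd_card_of_char_ne_two hodd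
    have h1' : 1 < Fintype.card F := Fintype.one_lt_card
    omega
  have : CharP F 3 := charP_of_card_eq_prime h3
  have hm2 : 2 ≤ m := by
    have hpos : 0 < m := i0.pos
    by_contra h
    have := h1 (by omega)
    omega
  have hsum : (Finset.univ.filter fun i => w i = 1).card +
      (Finset.univ.filter fun i => ¬ w i = 1).card = m := by
    rw [Finset.card_filter_add_card_filter_not]; simp
  by_cases hbad : (Finset.univ.filter fun i => w i = 1).card = 0 ∧
      (Finset.univ.filter fun i => ¬ w i = 1).card = 2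
  swap
  · exact finish apart_polyThree (goodD_three _ _ hb (fun h => by omega) hbad)
  -- one generic index and one plane
  have hm : m = 2 := by omega
  subst hm
  have hall : ∀ i, ¬ w i = 1 := fun i hi => by
    have h0 := Finset.card_eq_zero.1 hbad.1
    exact Finset.notMem_empty i (h0 ▸ Finset.mem_filter.2 ⟨Finset.mem_univ i, hi⟩)
  have hgen1 : ∀ i, s' i = true → i = i0 := fun i hi => by
    by_contra h
    exact hall i (by simp [w, μ, hi, h])
  obtain ⟨i1, hi1⟩ : ∃ i1 : Fin 2, i1 ≠ i0 := exists_ne i0
  have hs1 : s' i1 = false := by simpa using fun h => hi1 (hgen1 i1 h)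
  have hε1 : ε' i1 = -1 := (hc.sgn i1).resolve_left fun h => hall i1 (by simp [w, hs1, h])
  have hp1 : p' i1 = true := by
    by_contra h
    have h2' := hc.count ⟨i1, hs1, by simpa using h⟩
    have h3' : (Finset.univ.filter fun i => s' i = true).card ≤ 1 := Finset.card_le_one.2
      fun a ha b hb => by
        rw [hgen1 a (Finset.mem_filter.1 ha).2, hgen1 b (Finset.mem_filter.1 hb).2]
    omega
  -- put the generic index first
  let τ : Fin 2 ≃ Fin n := (Equiv.swap 0 i0).trans (Fintype.equivOfCardEq hcard)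
  obtain ⟨c', hc'⟩ := normal_of_frame hfr τ
  have hsp : ∀ i, s' (Equiv.swap 0 i0 i) = (s ∘ τ) i ∧ p' (Equiv.swap 0 i0 i) = (p ∘ τ) i ∧
      ε' (Equiv.swap 0 i0 i) = (ε ∘ τ) i := fun i => by
    subst hσ hpσ hεσ
    exact ⟨rfl, rfl, rfl⟩
  have hsw : Equiv.swap 0 i0 1 = i1 := by
    fin_cases i0 <;> fin_cases i1 <;> simp at hi1 ⊢
  have s0 : (s ∘ τ) 0 = true := by rw [← (hsp 0).1, Equiv.swap_apply_left, hi0]
  have s1 : (s ∘ τ) 1 = false := by rw [← (hsp 1).1, hsw, hs1]
  have p1 : (p ∘ τ) 1 = true := by rw [← (hsp 1).2.1, hsw, hp1]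
  have e1 : (ε ∘ τ) 1 = -1 := by rw [← (hsp 1).2.2, hsw, hε1]
  suffices hmain : IsComm (c'⁻¹ * g * c') by
    simpa [mul_assoc] using (IsComm.of_conj c' hmain).conj c⁻¹
  generalize hk : c'⁻¹ * g * c' = k at hc'
  have q1 : k.1 *ᵥ Pi.single (Sum.inl 1) 1 = -Pi.single (Sum.inl 1) 1 := by
    rw [hc'.eig 1 s1, e1, neg_one_smul]
  have q2 : k.1 *ᵥ Pi.single (Sum.inr 1) 1 = -Pi.single (Sum.inr 1) 1 := by
    rw [(hc'.plane 1 p1).2, e1, neg_one_smul]
  have hcol : ∀ x, k.1 x (.inl 1) = -(Pi.single (Sum.inl (1 : Fin 2)) (1 : F) : _ → F) x ∧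
      k.1 x (.inr 1) = -(Pi.single (Sum.inr (1 : Fin 2)) (1 : F) : _ → F) x := fun x =>
    ⟨by simpa [Matrix.mulVec_single_one] using congrFun q1 x,
      by simpa [Matrix.mulVec_single_one] using congrFun q2 x⟩
  set ν := k.1 (.inr 0) (.inl 0) with hν
  have hν0 : ν ≠ 0 := by
    intro h
    have := congrFun (hc'.inj (Pi.single 0 1) (fun i hi => by
      rcases Fin.exists_fin_two.1 ⟨i, rfl⟩ with rfl | rfl
      · rw [s0] at hi; simp at hi
      · simp) fun i hi => by
      rcases Fin.exists_fin_two.1 ⟨i, rfl⟩ with rfl | rfl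
      · simpa [← hν] using h
      · rw [s1] at hi; simp at hi) 0
    simp at this
  have hν2 : ν * ν = 1 := by
    have := FiniteField.pow_card_sub_one_eq_one ν hν0
    rw [h3, pow_two] at this
    exact this
  have q0 : k.1 *ᵥ Pi.single (Sum.inl 0) 1 = ν • Pi.single (Sum.inr 0) 1 := by
    funext x
    rw [Matrix.mulVec_single_one]
    rcases x with i | i
    · simp [hc'.col i 0 s0]
    · rcases Fin.exists_fin_two.1 ⟨i, rfl⟩ with rfl | rfl
      · simp [hν]
      · simp [hc'.off 1 0 s1]
  set v := k.1 *ᵥ Pi.single (Sum.inr 0) 1 with hv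
  have v1 : v (.inr 1) = 0 := by
    have := sbil_mulVec k (Pi.single (Sum.inr 0) 1) (Pi.single (Sum.inl 1) 1)
    rw [← hv, q1, ← neg_one_smul F, sbil_smul_right, sbil_single_inl, sbil_single_inl] at this
    simpa using this
  have v2 : v (.inl 1) = 0 := by
    have := sbil_mulVec k (Pi.single (Sum.inr 0) 1) (Pi.single (Sum.inr 1) 1)
    rw [← hv, q2, ← neg_one_smul F, sbil_smul_right, sbil_single_inr, sbil_single_inr] at this
    simpa using this
  have v0 : v (.inl 0) = -ν := by
    have := sbil_mulVec k (Pi.single (Sum.inr 0) 1) (Pi.single (Sum.inl 0) 1)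
    rw [← hv, q0, sbil_smul_right, sbil_single_inr, sbil_std_pair] at this
    linear_combination (-ν) * this - v (.inl 0) * hν2
  refine isComm_special h3 k ν (v (.inr 0)) hν0 ?_
  refine Matrix.ext_of_mulVec_single fun j => ?_
  rw [Matrix.mulVec_single_one (specialMat _ _)]
  rcases j with j | j <;> rcases Fin.exists_fin_two.1 ⟨j, rfl⟩ with rfl | rfl
  all_goals first | rw [q0] | rw [q1] | rw [q2] | rw [← hv]
  all_goals funext x; rcases x with i | i <;> fin_cases i
  all_goals simp [specialMat, v0, v1, v2]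

end CfsgLib.KnownB.OreSp
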