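import Cfsg.Agent.Lib.KnownB.OreSp.Block

/-!
Good diagonal matrices.
-/

set_option autoImplicit false

namespace CfsgLib.KnownB.OreSp

open Matrix Polynomial

variable {F : Type*} [Field F] {Φ : F[X]}
variable {k k' : Type*} [Fintype k] [DecidableEq k] [Fintype k'] [DecidableEq k']

theorem GoodM.fromBlocks {M : Matrix k k F} {M' : Matrix k' k' F} (h : GoodM Φ M)
    (h' : GoodM Φ M') : GoodM Φ (Matrix.fromBlocks M 0 0 M') := by
  obtain ⟨L, P, hL, hP, e, hz⟩ := h
  obtain ⟨L', P', hL', hP', e', hz'⟩ := h'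
  refine ⟨Matrix.fromBlocks L 0 0 L', Matrix.fromBlocks P 0 0 P', ?_, ?_, ?_, ?_⟩
  · rw [det_fromBlocks_zero₂₁]; exact hL.mul hL'
  · rw [det_fromBlocks_zero₂₁]; exact hP.mul hP'
  · simp [fromBlocks_multiply, e, e']
  · rw [aeval_fromBlocks, hz, hz', fromBlocks_zero]

theorem GoodM.reindex {M : Matrix k k F} (h : GoodM Φ M) (σ : k' ≃ k) :
    GoodM Φ (M.submatrix σ σ) := by
  obtain ⟨L, P, hL, hP, e, hz⟩ := h
  refine ⟨L.submatrix σ σ, P.submatrix σ σ, ?_, ?_, ?_, ?_⟩
  · rwa [det_submatrix_equiv_self]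
  · rwa [det_submatrix_equiv_self]
  · simp only [submatrix_mul_equiv, e]
  · change aeval (Matrix.reindexAlgEquiv F F σ.symm L) Φ = 0
    rw [aeval_algHom_apply, hz, map_zero]

/-- The diagonal matrix with `a` entries `1` and `b` entries `-1`. -/
def signMat (F : Type*) [Field F] (a b : ℕ) : Matrix (Fin a ⊕ Fin b) (Fin a ⊕ Fin b) F :=
  diagonal (Sum.elim (fun _ => 1) fun _ => -1)

/-- `a` entries `1` and `b` entries `-1` give a good matrix. -/
def GoodD (Φ : F[X]) (a b : ℕ) : Prop := GoodM Φ (signMat F a b)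

theorem GoodD.add {a b a' b' : ℕ} (h : GoodD Φ a b) (h' : GoodD Φ a' b') :
    GoodD Φ (a + a') (b + b') := by
  let σ : Fin (a + a') ⊕ Fin (b + b') ≃ (Fin a ⊕ Fin b) ⊕ (Fin a' ⊕ Fin b') :=
    (Equiv.sumCongr finSumFinEquiv.symm finSumFinEquiv.symm).trans (Equiv.sumSumSumComm _ _ _ _)
  have := (GoodM.fromBlocks h h').reindex σ
  refine cast (congrArg (GoodM Φ) ?_) this
  rw [signMat, signMat, fromBlocks_diagonal, submatrix_diagonal_equiv, signMat]
  congr 1
  funext i
  rcases i with i | i <;> refine Fin.addCases (fun j => ?_) (fun j => ?_) i <;> simp [σ]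

theorem goodD_zero : GoodD Φ 0 0 :=
  ⟨1, 1, by simp, by simp, Subsingleton.elim _ _, Subsingleton.elim _ _⟩

theorem goodD_of_dvd {a b : ℕ} (L P : Matrix (Fin a ⊕ Fin b) (Fin a ⊕ Fin b) F) (q : F[X])
    (hq : q ∣ Φ) (hL : IsUnit L.det) (hP : IsUnit P.det) (e : signMat F a b * L * P = P * L)
    (hz : aeval L q = 0) : GoodD Φ a b := by
  obtain ⟨c, rfl⟩ := hq
  exact ⟨L, P, hL, hP, e, by rw [map_mul, hz, zero_mul]⟩

/-- A matrix with entries `±1` is good as soon as the counted one is. -/
theorem goodM_diagonal [DecidableEq F] (w : k → F) (hw : ∀ i, w i = 1 ∨ w i = -1)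
    (h : GoodD Φ (Finset.univ.filter fun i => w i = 1).card
      (Finset.univ.filter fun i => ¬ w i = 1).card) : GoodM Φ (diagonal w) := by
  let σ : k ≃ Fin (Finset.univ.filter fun i => w i = 1).card ⊕
      Fin (Finset.univ.filter fun i => ¬ w i = 1).card :=
    (Equiv.sumCompl fun i => w i = 1).symm.trans (Equiv.sumCongr
      (Fintype.equivFinOfCardEq (Fintype.card_subtype _))
      (Fintype.equivFinOfCardEq (Fintype.card_subtype _)))
  have := GoodM.reindex h σ
  refine cast (congrArg (GoodM Φ) ?_) this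
  rw [signMat, submatrix_diagonal_equiv]
  congr 1
  funext i
  by_cases hi : w i = 1
  · simp [σ, Equiv.sumCompl_symm_apply_of_pos, hi]
  · simp [σ, Equiv.sumCompl_symm_apply_of_neg (p := fun i => w i = 1) hi, (hw i).resolve_left hi]

theorem rev_X_sub_C (c : F) : Rev (X - C c) (1 - C c * X) := by
  refine ⟨1, (natDegree_X_sub_C c).le, ?_⟩
  rw [sub_eq_add_neg, reflect_add, ← C_neg, reflect_C,
    show (X : F[X]) = C 1 * X ^ 1 by simp, reflect_C_mul_X_pow, revAt_le le_rfl]
  simp [sub_eq_add_neg]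

theorem coprime_X_sub_C (c : F) (hc : c * c ≠ 1) : IsCoprime (X - C c) (1 - C c * X) := by
  refine (irreducible_X_sub_C c).coprime_iff_not_dvd.2 fun h => hc ?_
  have := dvd_iff_isRoot.1 h
  simp only [IsRoot, eval_sub, eval_one, eval_mul, eval_C, eval_X] at this
  linear_combination -this

theorem apart_X_sub_C (c : F) (hc : c * c ≠ 1) : Apart (X - C c) :=
  ⟨_, rev_X_sub_C c, coprime_X_sub_C c hc⟩

/-- Scalars make all identity matrices good. -/
theorem goodM_one {c : F} (hc : c ≠ 0) : GoodM (X - C c) (1 : Matrix k k F) :=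
  ⟨c • 1, 1, by simp [hc, isUnit_iff_ne_zero], by simp, by simp,
    by simp [Algebra.algebraMap_eq_smul_one]⟩

/-- The polynomial used when the field has at least five elements. -/
noncomputable def polyBig (c d : F) : F[X] := (X - C c) * (X ^ 2 + C d)

theorem apart_polyBig {c d : F} (hc : c * c ≠ 1) (hd : ∀ x : F, x * x ≠ -d) (hd2 : d * d ≠ 1) :
    Apart (polyBig c d) := by
  have hcop := coprime_X_sub_C c hc
  have hR : Rev (X ^ 2 + C d : F[X]) (C d * X ^ 2 + 1) := by
    refine ⟨2, natDegree_X_pow_add_C.le, ?_⟩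
    rw [reflect_add, reflect_C, reflect_monomial, revAt_le le_rfl, add_comm]
    simp
  refine ⟨_, (rev_X_sub_C c).mul hR, IsCoprime.mul_left ?_ ?_⟩
  · refine IsCoprime.mul_right hcop
      ((irreducible_X_sub_C c).coprime_iff_not_dvd.2 fun h => ?_)
    have := dvd_iff_isRoot.1 h
    simp only [IsRoot, eval_add, eval_mul, eval_C, eval_pow, eval_X, eval_one] at this
    refine hd (c * d) ?_
    linear_combination d * this
  · refine IsCoprime.mul_right ?_ ?_
    · rcases eq_or_ne c 0 with rfl | hc0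
      · simp [isCoprime_one_right]
      refine ((irreducible_X_sub_C c⁻¹).coprime_iff_not_dvd.2 fun h => ?_).symm.of_isCoprime_of_dvd_right ?_
      · have := dvd_iff_isRoot.1 h
        simp only [IsRoot, eval_add, eval_C, eval_pow, eval_X] at this
        exact hd c⁻¹ (by linear_combination this)
      · refine ⟨-C c⁻¹, ?_⟩
        have e1 : (C c⁻¹ : F[X]) * C c = 1 := by rw [← map_mul, inv_mul_cancel₀ hc0, map_one]
        linear_combination -X * e1
    · refine ⟨C (d / (d * d - 1)), C (-1 / (d * d - 1)), ?_⟩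
      have hne : d * d - 1 ≠ 0 := sub_ne_zero.2 hd2
      have e1 : (C (d / (d * d - 1)) * C d + C (-1 / (d * d - 1)) : F[X]) = 1 := by
        rw [← map_mul, ← map_add, ← map_one C]
        congr 1
        rw [div_mul_eq_mul_div, ← add_div, ← sub_eq_add_neg, div_self hne]
      have e2 : (C (d / (d * d - 1)) + C (-1 / (d * d - 1)) * C d : F[X]) = 0 := by
        rw [← map_mul, ← map_add, ← map_zero C]
        congr 1
        ring
      linear_combination e1 + X ^ 2 * e2

theorem goodD_big {c d : F} (hc0 : c ≠ 0) (hd0 : d ≠ 0) :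
    ∀ (a b : ℕ), Even b → GoodD (polyBig c d) a b := by
  have hone : GoodD (polyBig c d) 1 0 := by
    refine goodD_of_dvd (c • 1) 1 (X - C c) ⟨_, rfl⟩ (by simp [hc0, isUnit_iff_ne_zero]) (by simp)
      ?_ (by simp [Algebra.algebraMap_eq_smul_one])
    have : signMat F 1 0 = 1 := by
      rw [signMat, ← diagonal_one]; congr 1; funext i
      rcases i with i | i
      · rfl
      · exact i.elim0
    simp [this]
  have htwo : GoodD (polyBig c d) 0 2 := by
    let σ : Fin 0 ⊕ Fin 2 ≃ Fin 2 := Equiv.emptySum _ _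
    have h : GoodM (polyBig c d) (-1 : Matrix (Fin 2) (Fin 2) F) := by
      refine ⟨!![0, -d; 1, 0], !![1, 0; 0, -1], ?_, ?_, ?_, ?_⟩
      · simp [det_fin_two_of, isUnit_iff_ne_zero, hd0]
      · simp [det_fin_two_of]
      · ext i j
        fin_cases i <;> fin_cases j <;> simp
      · rw [polyBig, map_mul]
        have : aeval (!![0, -d; 1, 0] : Matrix (Fin 2) (Fin 2) F) (X ^ 2 + C d) = 0 := by
          simp only [map_add, aeval_C, sq]
          ext i j
          fin_cases i <;> fin_cases j <;> simp [Matrix.algebraMap_matrix_apply]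
        rw [this, mul_zero]
    refine cast (congrArg (GoodM _) ?_) (h.reindex σ)
    rw [signMat, ← diagonal_one, diagonal_neg, submatrix_diagonal_equiv]
    congr 1
    funext i
    rcases i with i | i
    · exact i.elim0
    · rfl
  intro a b hb
  obtain ⟨e, rfl⟩ := hb
  rw [← two_mul]
  induction a with
  | zero =>
    induction e with
    | zero => exact goodD_zero
    | succ e ih => exact ih.add htwo
  | succ a ih => simpa using ih.add hone

end CfsgLib.KnownB.OreSp
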