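import Cfsg.Agent.Lib.KnownB.OreSp.Exists
import Cfsg.Agent.Lib.KnownB.OreSp.Units

/-!
The normal form of an element of the symplectic group.
-/

set_option autoImplicit false

namespace CfsgLib.KnownB.OreSp

open Matrix CfsgLib.Classical

variable {l : Type*} [Fintype l] [DecidableEq l] {F : Type*} [Field F]

local notation "Sp" => Matrix.symplecticGroup l F

/-- The alternating form as a bilinear map. -/
def sbilMap : (l ⊕ l → F) →ₗ[F] (l ⊕ l → F) →ₗ[F] F :=
  LinearMap.mk₂ F sbil sbil_add_left (fun c u v => sbil_smul_left c u v) sbil_add_right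
    fun c u v => sbil_smul_right c u v

@[simp] theorem sbilMap_apply (u v : l ⊕ l → F) : sbilMap u v = sbil u v := rfl

/-- An element as a linear equivalence. -/
def spEquiv (g : Sp) : (l ⊕ l → F) ≃ₗ[F] (l ⊕ l → F) :=
  LinearEquiv.ofLinearMap g.1.mulVecLin (g⁻¹).1.mulVecLin
    (LinearMap.ext fun v => sp_mulVec_inv g v) (LinearMap.ext fun v => sp_inv_mulVec g v)

@[simp] theorem spEquiv_apply (g : Sp) (v : l ⊕ l → F) : spEquiv g v = g.1 *ᵥ v := rfl

theorem isom_spEquiv (g : Sp) : Isom sbilMap (spEquiv g) :=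
  ⟨fun x => sbil_self x, fun x h => sbil_ext fun y => by simpa using h y,
    fun x y => sbil_mulVec g x y⟩

/-- The shape of a conjugate adapted to a frame. -/
structure Normal (g : Sp) (s p : l → Bool) (ε : l → F) : Prop where
  sgn : ∀ i, ε i = 1 ∨ ε i = -1
  eig : ∀ i, s i = false → g.1 *ᵥ Pi.single (.inl i) 1 = ε i • Pi.single (.inl i) 1
  plane : ∀ i, p i = true → s i = false ∧ g.1 *ᵥ Pi.single (.inr i) 1 = ε i • Pi.single (.inr i) 1
  col : ∀ i j, s j = true → g.1 (.inl i) (.inl j) = 0
  sym : g.1.toBlocks₂₁ᵀ = g.1.toBlocks₂₁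
  off : ∀ i j, s i = false → g.1 (.inr i) (.inl j) = 0
  inj : ∀ c : l → F, (∀ i, s i = false → c i = 0) →
    (∀ i, s i = true → ∑ j, c j * g.1 (.inr i) (.inl j) = 0) → c = 0
  count : (∃ i, s i = false ∧ p i = false) → 2 ≤ (Finset.univ.filter fun i => s i = true).card

theorem frame_entries (g : Sp) (i j : l) :
    g.1 (.inl i) (.inl j) = sbil (Pi.single (.inr i) 1) (g.1 *ᵥ Pi.single (.inl j) 1) ∧
      g.1 (.inr i) (.inl j) = sbil (g.1 *ᵥ Pi.single (.inl j) 1) (Pi.single (.inl i) 1) := by
  constructor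
  · rw [sbil_swap, sbil_single_inr]
    simp
  · rw [sbil_single_inl]
    simp

omit [DecidableEq l] in
theorem exists_equiv_of_frame [DecidableEq l] {ι : Type} [Fintype ι] [DecidableEq ι] {g : Sp}
    {e f : ι → (l ⊕ l → F)} {s p : ι → Bool} {ε : ι → F}
    (h : Frame sbilMap (spEquiv g) e f s p ε) : Fintype.card l = Fintype.card ι := by
  have := h.dim
  rw [Module.finrank_pi, Fintype.card_sum] at this
  omega

theorem normal_of_frame {ι : Type} [Fintype ι] [DecidableEq ι] {g : Sp}
    {e f : ι → (l ⊕ l → F)} {s p : ι → Bool} {ε : ι → F}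
    (h : Frame sbilMap (spEquiv g) e f s p ε) (σ : l ≃ ι) :
    ∃ c : Sp, Normal (c⁻¹ * g * c) (s ∘ σ) (p ∘ σ) (ε ∘ σ) := by
  let C : Matrix (l ⊕ l) (l ⊕ l) F :=
    Matrix.of fun x j => Sum.elim (fun i => e (σ i)) (fun i => f (σ i)) j x
  have hC : ∀ j, C *ᵥ Pi.single j 1 = Sum.elim (fun i => e (σ i)) (fun i => f (σ i)) j := fun j => by
    rw [Matrix.mulVec_single_one]; rfl
  have hmem : C ∈ Matrix.symplecticGroup l F := by
    rw [SymplecticGroup.mem_iff']
    ext a b
    have hee : ∀ i j, sbil (e i) (e j) = 0 := h.ee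
    have hff : ∀ i j, sbil (f i) (f j) = 0 := h.ff
    have hfe : ∀ i j, sbil (f i) (e j) = if i = j then 1 else 0 := h.fe
    have key : sbil (C *ᵥ Pi.single a 1) (C *ᵥ Pi.single b 1) =
        (Cᵀ * Matrix.J l F * C) a b := by
      rw [sbil_eq_toBilin]; simp
    rw [← key, hC, hC]
    rcases a with i | i <;> rcases b with j | j <;>
      simp [hee, hff, hfe, Matrix.J, Matrix.one_apply, sbil_swap (f _) (e _), eq_comm]
  refine ⟨⟨C, hmem⟩, ?_⟩
  set c : Sp := ⟨C, hmem⟩
  have hce : ∀ i, c.1 *ᵥ Pi.single (.inl i) 1 = e (σ i) := fun i => hC (.inl i)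
  have hcf : ∀ i, c.1 *ᵥ Pi.single (.inr i) 1 = f (σ i) := fun i => hC (.inr i)
  have hconj : ∀ x y, (c⁻¹ * g * c).1 *ᵥ x = y ↔ g.1 *ᵥ (c.1 *ᵥ x) = c.1 *ᵥ y := fun x y => by
    rw [sp_mul_mulVec, sp_mul_mulVec]
    exact ⟨fun e => by rw [← e, sp_mulVec_inv], fun e => by rw [e, sp_inv_mulVec]⟩
  have hsb : ∀ x y, sbil x ((c⁻¹ * g * c).1 *ᵥ y) = sbil (c.1 *ᵥ x) (g.1 *ᵥ (c.1 *ᵥ y)) :=
    fun x y => by rw [← sbil_mulVec c, sp_mul_mulVec, sp_mul_mulVec, sp_mulVec_inv]
  have hM : ∀ i j, (c⁻¹ * g * c).1 (.inl i) (.inl j) = sbil (f (σ i)) (g.1 *ᵥ e (σ j)) := fun i j => by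
    rw [(frame_entries _ i j).1, hsb, hce, hcf]
  have hN : ∀ i j, (c⁻¹ * g * c).1 (.inr i) (.inl j) = sbil (g.1 *ᵥ e (σ j)) (e (σ i)) := fun i j => by
    rw [(frame_entries _ i j).2, sbil_swap, hsb, ← sbil_swap, hce, hce]
  have hsq : ∀ i, ε i * ε i = 1 := fun i => by rcases h.sgn i with e | e <;> simp [e]
  have hz : ∀ a b, s a = false → sbil (g.1 *ᵥ e b) (e a) = 0 := by
    intro a b ha
    have : e a = ε a • (g.1 *ᵥ e a) := by
      have h1 : g.1 *ᵥ e a = ε a • e a := h.eig a ha
      rw [h1, smul_smul, hsq, one_smul]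
    rw [this, sbil_smul_right, sbil_mulVec]
    simpa using Or.inr (h.ee b a)
  have hz' : ∀ a b, s a = false → sbil (g.1 *ᵥ e a) (e b) = 0 := by
    intro a b ha
    have h1 : g.1 *ᵥ e a = ε a • e a := h.eig a ha
    rw [h1, sbil_smul_left]
    simpa using Or.inr (h.ee a b)
  exact
    { sgn := fun i => h.sgn _
      eig := fun i hi => by
        have h1 : g.1 *ᵥ e (σ i) = ε (σ i) • e (σ i) := h.eig _ hi
        rw [hconj, hce, h1, mulVec_smul, hce]; rfl
      plane := fun i hi => by
        refine ⟨(h.plane _ hi).1, ?_⟩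
        have h1 : g.1 *ᵥ f (σ i) = ε (σ i) • f (σ i) := (h.plane _ hi).2
        rw [hconj, hcf, h1, mulVec_smul, hcf]; rfl
      col := fun i j hj => by rw [hM]; exact h.col _ _ hj
      sym := by
        ext i j
        simp only [Matrix.transpose_apply, toBlocks₂₁, Matrix.of_apply, hN]
        by_cases hi : s (σ i) = true
        · by_cases hj : s (σ j) = true
          · exact h.sym _ _ hi hj
          · rw [hz _ _ (by simpa using hj), hz' _ _ (by simpa using hj)]
        · rw [hz' _ _ (by simpa using hi), hz _ _ (by simpa using hi)]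
      off := fun i j hi => by rw [hN]; exact hz _ _ hi
      inj := fun d hd hs => by
        have := h.inj (d ∘ σ.symm) (fun i hi => hd _ (by simpa using hi)) fun i hi => by
          have h' := hs (σ.symm i) (by simpa using hi)
          simp only [hN] at h'
          rw [← Equiv.sum_comp σ]
          simpa using h'
        funext i
        simpa using congrFun this (σ i)
      count := fun ⟨i, hi⟩ => by
        refine (h.count ⟨σ i, hi⟩).trans (le_of_eq ?_)
        refine Finset.card_equiv σ.symm fun a => ?_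
        simp }

variable {g : Matrix.symplecticGroup l F} {s p : l → Bool} {ε : l → F}

/-- Without generic indices the element is diagonal. -/
theorem Normal.diag (hg : Normal g s p ε) (hs : ∀ i, s i = false) :
    g.1 = fromBlocks (diagonal ε) 0 0 (diagonal ε) := by
  have hp : ∀ i, p i = true := fun i => by
    by_contra h
    have := hg.count ⟨i, hs i, by simpa using h⟩
    simp [hs] at this
  refine Matrix.ext_of_mulVec_single fun j => ?_
  rcases j with j | j
  · rw [hg.eig j (hs j)]
    funext x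
    rcases x with x | x <;> simp [Pi.single_apply]
  · rw [(hg.plane j (hp j)).2]
    funext x
    rcases x with x | x <;> simp [Pi.single_apply]

/-- Any corner congruent to the generic part can be reached. -/
theorem Normal.corner (hg : Normal g s p ε) {Φ : Polynomial F} (μ : l → F)
    (hS : ∀ N : Matrix {i // s i = true} {i // s i = true} F, Nᵀ = N → IsUnit N.det →
      ∃ S Q : Matrix {i // s i = true} {i // s i = true} F, Sᵀ = S ∧ IsUnit Q.det ∧
        S * N = Q * diagonal (fun i => μ i.1) * Q⁻¹)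
    (hgood : GoodM Φ (diagonal fun i => if s i = true then μ i else ε i)) :
    ∃ c : Matrix.symplecticGroup l F, GoodM Φ (c⁻¹ * g * c).1.toBlocks₁₁ := by
  let τ : {i // s i = true} ⊕ {i // ¬ s i = true} ≃ l := Equiv.sumCompl fun i => s i = true
  let N1 : Matrix {i // s i = true} {i // s i = true} F := Matrix.of fun i j => g.1 (.inr i.1) (.inl j.1)
  have hN1s : N1ᵀ = N1 := by
    ext i j
    exact congrFun (congrFun hg.sym i.1) j.1
  have hN1u : IsUnit N1.det := by
    refine (Matrix.isUnit_iff_isUnit_det N1).1 (Matrix.mulVec_injective_iff_isUnit.1 ?_)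
    intro a b hab
    let d : l → F := fun i => if h : s i = true then a ⟨i, h⟩ - b ⟨i, h⟩ else 0
    have hd := hg.inj d (fun i hi => by simp [d, hi]) fun i hi => by
      have h1 := congrFun hab ⟨i, hi⟩
      rw [← Equiv.sum_comp τ, Fintype.sum_sum_type]
      have e1 : ∀ x : {i // ¬ s i = true}, d (τ (.inr x)) = 0 := fun x => by simp [τ, d, x.2]
      have e2 : ∀ x : {i // s i = true}, d (τ (.inl x)) = a x - b x := fun x => by simp [τ, d, x.2]
      simp only [e1, e2, zero_mul, Finset.sum_const_zero, add_zero, sub_mul, Finset.sum_sub_distrib]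
      simp only [Matrix.mulVec, dotProduct, N1, Matrix.of_apply] at h1
      rw [sub_eq_zero]
      simpa [τ, mul_comm] using h1
    funext i
    have h2 := congrFun hd i.1
    simpa [d, i.2, sub_eq_zero] using h2
  obtain ⟨S1, Q, hS1, hQ, hSN⟩ := hS N1 hN1s hN1u
  let S : Matrix l l F := (fromBlocks S1 0 0 0).submatrix τ.symm τ.symm
  have hSs : (-S)ᵀ = -S := by
    simp [S, transpose_submatrix, fromBlocks_transpose, hS1]
  refine ⟨upU (-S) hSs, ?_⟩
  have hinv : (upU (-S) hSs)⁻¹ = upU S (by simpa using hSs) := by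
    refine inv_eq_of_mul_eq_one_left (Subtype.ext ?_)
    simp [upU, fromBlocks_multiply, fromBlocks_one]
  have hcorner : ((upU (-S) hSs)⁻¹ * g * upU (-S) hSs).1.toBlocks₁₁ =
      g.1.toBlocks₁₁ + S * g.1.toBlocks₂₁ := by
    rw [hinv, Submonoid.coe_mul, Submonoid.coe_mul]
    nth_rw 1 [← fromBlocks_toBlocks g.1]
    simp [upU, fromBlocks_multiply]
  have hN : g.1.toBlocks₂₁ = (fromBlocks N1 0 0 0).submatrix τ.symm τ.symm := by
    refine Eq.symm ((Matrix.reindex τ τ).symm.injective ?_)
    ext i j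
    rcases i with i | i <;> rcases j with j | j <;> simp [τ, N1, toBlocks₂₁]
    · have hsym := congrFun (congrFun hg.sym i.1) j.1
      simp only [Matrix.transpose_apply, toBlocks₂₁, Matrix.of_apply] at hsym
      rw [← hsym, hg.off _ _ (by simpa using j.2)]
    · rw [hg.off _ _ (by simpa using i.2)]
    · rw [hg.off _ _ (by simpa using i.2)]
  have hM : g.1.toBlocks₁₁ =
      (fromBlocks 0 0 0 (diagonal fun i : {i // ¬ s i = true} => ε i.1)).submatrix τ.symm τ.symm := by
    refine Eq.symm ((Matrix.reindex τ τ).symm.injective ?_)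
    ext i j
    have he : ∀ (a : l) (b : {i // ¬ s i = true}),
        g.1 (.inl a) (.inl b.1) = if a = b.1 then ε b.1 else 0 := fun a b => by
      have := congrFun (hg.eig b.1 (by simpa using b.2)) (.inl a)
      simpa [Pi.single_apply] using this
    rcases i with i | i <;> rcases j with j | j <;> simp [τ, toBlocks₁₁]
    · rw [hg.col _ _ j.2]
    · rw [he, if_neg (fun e => j.2 (by rw [← e]; exact i.2))]
    · rw [hg.col _ _ j.2]
    · rw [he, diagonal_apply]
      by_cases h : i = j
      · simp [h]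
      · simp [h, Subtype.ext_iff.not.1 h]
  rw [hcorner, hM, hN]
  simp only [S]
  rw [submatrix_mul_equiv, show ∀ X Y : Matrix _ _ F, X.submatrix τ.symm τ.symm +
      Y.submatrix τ.symm τ.symm = (X + Y).submatrix τ.symm τ.symm from fun _ _ => rfl,
    fromBlocks_multiply, fromBlocks_add]
  simp only [Matrix.zero_mul, Matrix.mul_zero, add_zero, zero_add, hSN]
  refine GoodM.reindex ?_ τ.symm
  have h1 := (hgood.reindex τ).similar (Q := fromBlocks Q 0 0 1)
    (by rw [det_fromBlocks_zero₂₁]; simpa using hQ)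
  have hQi : (fromBlocks Q 0 0 (1 : Matrix {i // ¬ s i = true} {i // ¬ s i = true} F))⁻¹ =
      fromBlocks Q⁻¹ 0 0 1 := by
    refine Matrix.inv_eq_right_inv ?_
    simp [fromBlocks_multiply, Matrix.mul_nonsing_inv _ hQ, fromBlocks_one]
  have hD : (diagonal fun i => if s i = true then μ i else ε i).submatrix τ τ =
      fromBlocks (diagonal fun i : {i // s i = true} => μ i.1) 0 0
        (diagonal fun i : {i // ¬ s i = true} => ε i.1) := by
    rw [submatrix_diagonal_equiv, fromBlocks_diagonal]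
    congr 1
    funext i
    rcases i with i | i
    · simp [τ, i.2]
    · simp [τ, i.2]
  rw [hQi, hD, fromBlocks_multiply, fromBlocks_multiply] at h1
  simpa using h1

end CfsgLib.KnownB.OreSp
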